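import Cfsg.Agent.H630.ExcI
import Cfsg.Agent.H630.ExcH
import Cfsg.Agent.H630.ExcJ
import Cfsg.Agent.H990.PQ.Core
import Cfsg.Agent.H317.PQ.Exc

/-!
# Principal blocks and twisted tori (helper755)

The engine for `Kill e e` in the exceptional groups, on top of `H630.Exc.Setup`:

* `not_same_of_comm` : `T` abelian, `T ≤ C(D)`, every `p'`-element of `C(D)` lies in `T`, `l ∣ |T|`;
* `IsTor S ε w1 T` : `T` is the torus of `θ = ε w1` in `X`; `exists_isTor`, `IsTor.comm`;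
* `IsTor.dvd_card`, `IsTor.dvd_card_comm` : primes dividing `|T|`;
* `IsTor.not_dvd_index` : `T` contains a Sylow subgroup;
* `IsTor.not_same_good`, `IsTor.not_same_reg` : the two criteria.
-/

set_option autoImplicit false
set_option linter.unusedSectionVars false
set_option linter.unusedVariables false

namespace Cfsg.Agent.H755.PQ

open CoxeterSystem Cfsg Cfsg.Lie Cfsg.Lie.ChevalleyDatum
open Cfsg.Agent.ChevalleyStructure Cfsg.Agent.ChevalleyStructure.Elts Cfsg.Agent.ChevalleyStructure.CoxeterGeom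
  Cfsg.Agent.ChevalleyStructure.CoxeterGeomTypes Cfsg.Agent.ChevalleyStructure.NPerm
open Cfsg.Agent.Tits.Roots Cfsg.Agent.Tits.Core Cfsg.Agent.Nodes Cfsg.Agent.Nodes.Reps Cfsg.Agent.Nodes.BNOf
  Cfsg.Agent.Nodes.RGDChev Cfsg.Agent.Nodes.Bruhat Cfsg.Agent.Nodes.SubComb Cfsg.Agent.Nodes.Coroot
open Cfsg.Agent.KFacts.RgdField Cfsg.Agent.KFacts.RgdChevCoord Cfsg.Agent.BpExc.TorCent Cfsg.Agent.BpExc.TorChev
open Cfsg.Agent.GpExc.Field Cfsg.Agent.BpExc.Tow Cfsg.Agent.BpExc.TowChev Cfsg.Agent.BpExc.Fr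
  Cfsg.Agent.BpExc.LangFr Cfsg.Agent.LangThm Cfsg.Agent.BpExc Cfsg.Agent.H129.TorusChar Cfsg.Agent.H129.TorusMain
open Cfsg.Agent.H129.TorAct (cX_tau tau_mem exists_theta)
open Cfsg.Agent.H630.NH Cfsg.Agent.H630.Exc Cfsg.Agent.H317.PQ Cfsg.Agent.H990.PQ
open Cfsg.Agent.H130.WeylCk Cfsg.Agent.H130.PolyL

universe u v

/-! ### groups -/

/-- `T` abelian, `T ≤ C(D)`, all `p'`-elements of `C(D)` in `T`, `l ∣ |T|` -/
theorem not_same_of_comm {G : Type u} [Group G] [Finite G] {p l : ℕ} (hp : p.Prime) (hl : l.Prime) (hpl : p ≠ l)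
    (D : Subgroup G) (hD : IsPGroup p D) (T : Subgroup G) (hT : ∀ a ∈ T, ∀ b ∈ T, a * b = b * a)
    (hTD : T ≤ Subgroup.centralizer (D : Set G))
    (hc : ∀ y ∈ Subgroup.centralizer (D : Set G), ¬ p ∣ orderOf y → y ∈ T)
    (hlT : l ∣ Nat.card T) : ¬ Same p l G := by
  intro hS
  have : Fact p.Prime := ⟨hp⟩
  have : Fact l.Prime := ⟨hl⟩
  set C := Subgroup.centralizer (D : Set G) with hC
  have hord : ∀ y : C, orderOf (y : G) = orderOf y := fun y => Subgroup.orderOf_coe y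
  let N : Subgroup C :=
    { carrier := {y | ¬ p ∣ orderOf y}
      one_mem' := by
        show ¬ p ∣ orderOf (1 : C)
        rw [orderOf_one]
        exact fun h => hp.one_lt.ne' (Nat.dvd_one.1 h)
      mul_mem' := by
        intro a b ha hb hab
        have ha' : (a : G) ∈ T := hc a a.2 (by rw [hord]; exact ha)
        have hb' : (b : G) ∈ T := hc b b.2 (by rw [hord]; exact hb)
        have h1 : Commute a b := Subtype.ext (hT _ ha' _ hb')
        have h2 := hab.trans h1.orderOf_mul_dvd_lcm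
        rcases (Nat.Prime.dvd_lcm hp).1 h2 with h3 | h3
        · exact ha h3
        · exact hb h3
      inv_mem' := by
        intro a ha
        show ¬ p ∣ orderOf a⁻¹
        rw [orderOf_inv]
        exact ha }
  have hN : N.Normal := by
    refine ⟨fun a ha g => ?_⟩
    show ¬ p ∣ orderOf (g * a * g⁻¹)
    have h1 : orderOf (g * a * g⁻¹) = orderOf a := by
      have := MulEquiv.orderOf_eq (MulAut.conj g) a
      simpa using this
    rw [h1]
    exact ha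
  have h1 : ¬ p ∣ Nat.card N := by
    intro h
    obtain ⟨y, hy⟩ := exists_prime_orderOf_dvd_card' p h
    apply y.2
    rw [Subgroup.orderOf_coe, hy]
  obtain ⟨x, hx⟩ := exists_prime_orderOf_dvd_card' l hlT
  have hxl : orderOf (x : G) = l := by rw [Subgroup.orderOf_coe, hx]
  have hxC : (x : G) ∈ C := hTD x.2
  have hxN : (⟨x, hxC⟩ : C) ∈ N := by
    show ¬ p ∣ orderOf (⟨x, hxC⟩ : C)
    rw [← hord, hxl]
    intro h
    exact hpl ((Nat.prime_dvd_prime_iff_eq hp hl).1 h)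
  have h2 : l ∣ Nat.card N := by
    have h3 : orderOf (⟨⟨x, hxC⟩, hxN⟩ : N) = l := by
      rw [← Subgroup.orderOf_coe, ← Subgroup.orderOf_coe]
      exact hxl
    rw [← h3]
    exact orderOf_dvd_natCard _
  exact Same.core_subgroup hp hl hpl hS D hD N h1 h2

variable {D : ChevalleyDatum} {l : ℕ} {M : CoxeterMatrix (Fin l)} (hp : IsType D l M) {k : Type u} [Field k]
  {W : Type*} [Group W] (cs : CoxeterSystem M W)

variable {p e : ℕ} [Fact p.Prime] [CharP k p] {σ : MulAut ↥(D.group k)} {g : (Fin l → ℤ) ≃+ (Fin l → ℤ)}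
  {X : Type v} [Group X] {e0 : X →* ↥(D.group k)} {d : ℕ} (S : Setup hp cs p e σ g e0 d)

/-- `T` is the twisted torus of `X` on which `θ = ε R`. -/
def IsTor (S : Setup hp cs p e σ g e0 d) (ε : ℤ) (R : Module.End ℤ (Fin l → ℤ)) (T : Subgroup X) : Prop :=
  ∃ (w : W) (n' z : ↥(D.group k)), (∀ x, theta hp cs w g x = ε • R x) ∧
    Rp cs (S.nsys hp cs) w n' ∧ n' = z⁻¹ * σ z ∧ T = tX D k e0 z

theorem exists_isTorR [IsAlgClosed k] [Finite W] {ε : ℤ} {R : Module.End ℤ (Fin l → ℤ)}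
    (hT : ∃ w : W, ∀ x, theta hp cs w g x = ε • R x) : ∃ T : Subgroup X, IsTor hp cs S ε R T := by
  obtain ⟨w, hw'⟩ := hT
  obtain ⟨n', hn'⟩ := exists_rp cs (S.nsys hp cs) w
  obtain ⟨z, hz⟩ := lang_all hp cs S.pos S.frob S.fr 1 n'
  rw [map_one, one_mul] at hz
  exact ⟨_, w, n', z, hw', hn', hz, rfl⟩

theorem exists_isTor [IsAlgClosed k] [Finite W] {ε : ℤ} {w1 : W} (hT : HasTor hp cs g ε w1) :
    ∃ T : Subgroup X, IsTor hp cs S ε (rep cs hp.isCartan w1) T :=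
  exists_isTorR hp cs S hT

variable {S} {ε : ℤ} {R : Module.End ℤ (Fin l → ℤ)} {T : Subgroup X} (h : IsTor hp cs S ε R T)

include h

theorem IsTor.comm : ∀ a ∈ T, ∀ b ∈ T, a * b = b * a := by
  obtain ⟨w, n', z, hw, hn', hz, rfl⟩ := h
  exact fun a ha b hb => tX_comm hp S.inj z ha hb

theorem IsTor.isMulCommutative : IsMulCommutative T :=
  ⟨⟨fun a b => Subtype.ext (IsTor.comm hp cs h a a.2 b b.2)⟩⟩

/-- **Primes dividing the order of the torus.** -/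
theorem IsTor.pow_dvd_card [IsAlgClosed k] [Finite W] [Finite X] (hε : ε = 1 ∨ ε = -1) {r : ℕ} (hr : r.Prime)
    (hrp : r ≠ p) (hrd : ¬ r ∣ d) (hr2 : r ≠ 2) {Q : ℤ} (hQ : Q = ε * (p ^ e : ℕ)) {n N : ℕ}
    (hn : orderOf (Q : ZMod r) = n) (hR : R ^ N = 1) (hnN : n ∣ N) (hrN : ¬ r ∣ N)
    {a : ℕ} (x : Fin a → Fin l → ℤ) (y : Fin a → ((Fin l → ℤ) →ₗ[ℤ] ℤ)) (c : ℤ)
    (hc : ¬ (r : ℤ) ∣ c) (hx : ∀ i, Polynomial.aeval R (Polynomial.cyclotomic n ℤ) (x i) = 0)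
    (hy : ∀ i i', ∀ j < (Polynomial.cyclotomic n ℤ).natDegree, y i ((R ^ j) (x i')) =
      if i = i' ∧ j + 1 = (Polynomial.cyclotomic n ℤ).natDegree then c else 0)
    {v : ℕ} (hv : ((r ^ v : ℕ) : ℤ) ∣ (Polynomial.cyclotomic n ℤ).eval Q) : (r ^ v) ^ a ∣ Nat.card T := by
  obtain ⟨w, n', z, hw, hn', hz, rfl⟩ := h
  exact S.pow_dvd_card_tXR hp cs hε hw hn' hz hr hrp hrd hr2 hQ hn hR hnN hrN x y c hc hx hy hv

/-- **The torus contains a Sylow `r`-subgroup.** -/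
theorem IsTor.not_dvd_index [IsAlgClosed k] [Finite W] [Finite X] (hε : ε = 1 ∨ ε = -1) {r : ℕ} (hr : r.Prime)
    (hrp : r ≠ p) (hrd : ¬ r ∣ d) (hr2 : r ≠ 2) {Q : ℤ} (hQ : Q = ε * (p ^ e : ℕ)) {n N : ℕ} (hn0 : 0 < n)
    (hn : orderOf (Q : ZMod r) = n) (hR : R ^ N = 1) (hnN : n ∣ N) (hrN : ¬ r ∣ N)
    {a : ℕ} (x : Fin a → Fin l → ℤ) (y : Fin a → ((Fin l → ℤ) →ₗ[ℤ] ℤ)) (c : ℤ)
    (hc : ¬ (r : ℤ) ∣ c) (hx : ∀ i, Polynomial.aeval R (Polynomial.cyclotomic n ℤ) (x i) = 0)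
    (hy : ∀ i i', ∀ j < (Polynomial.cyclotomic n ℤ).natDegree, y i ((R ^ j) (x i')) =
      if i = i' ∧ j + 1 = (Polynomial.cyclotomic n ℤ).natDegree then c else 0)
    {fs : ℤ} {N' g' : ℕ} (hcard : g' * Nat.card X = (p ^ e) ^ N' * fs.natAbs)
    (hfs : ∃ R', fs = (Polynomial.cyclotomic n ℤ).eval Q ^ a * R' ∧ ¬ (r : ℤ) ∣ R') : ¬ r ∣ T.index := by
  have hQ1 : 1 < Q.natAbs := by
    have h4 : Q.natAbs = p ^ e := by
      rw [hQ, Int.natAbs_mul]
      rcases hε with rfl | rfl <;> simp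
    rw [h4]
    exact Nat.one_lt_pow S.pos.ne' (Fact.out : p.Prime).one_lt
  obtain ⟨v, b, hv, hb⟩ := exists_part hr (cyclotomic_eval_ne_zero hn0 hQ1)
  refine H630.Exc.not_dvd_index _ hr hfs (fun h => ?_) hcard hv hb
    (IsTor.pow_dvd_card hp cs h hε hr hrp hrd hr2 hQ hn hR hnN hrN x y c hc hx hy (v := v) ⟨b, hv⟩)
  exact hrp ((Nat.prime_dvd_prime_iff_eq hr (Fact.out : p.Prime)).1 (hr.dvd_of_dvd_pow h))

/-- **Regular elements**: every root is nontrivial on the elements of order `r` of the torus (no hypothesis on the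
order of `X`). -/
theorem IsTor.not_same_reg [IsAlgClosed k] [Finite W] [Finite X] (hε : ε = 1 ∨ ε = -1) {r s : ℕ} (hrp : r.Prime)
    (hsp : s.Prime) (hrs : r ≠ s) (hrc : r ≠ p) (hrd : ¬ r ∣ d) (hr2 : r ≠ 2) {Q : ℤ} (hQ : Q = ε * (p ^ e : ℕ))
    {n : ℕ} (hR : R ^ n = 1) (hrQ : (r : ℤ) ∣ Q ^ n - 1)
    (hreg : ∀ a, IsRoot cs hp.isCartan a → ∃ L : (Fin l → ℤ) →+ ℤ,
      ¬ (r : ℤ) ∣ ∑ j ∈ Finset.range n, Q ^ (n - j) * L ((R ^ j) a))
    (hs : s ∣ Nat.card T) : ¬ Same r s X := by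
  have : Fact r.Prime := ⟨hrp⟩
  obtain ⟨w, n', z, hw, hn', hz, rfl⟩ := h
  have hrZ := Nat.prime_iff_prime_int.1 hrp
  have hNs := S.nsys hp cs
  have hrk : (r : k) ≠ 0 := by
    rw [Ne, CharP.cast_eq_zero_iff k p]
    intro h
    exact hrc ((Nat.prime_dvd_prime_iff_eq (Fact.out : p.Prime) hrp).1 h).symm
  obtain ⟨B, d', hd', hB⟩ := S.inv
  have hθ : ∀ x, (theta hp cs w g)^[2 * n] x = x := theta_powR hp cs hε hw hR
  have hq : (r : ℤ) ∣ ((p ^ e : ℕ) : ℤ) ^ (2 * n) - 1 := by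
    have h1 : ((p ^ e : ℕ) : ℤ) ^ (2 * n) = Q ^ (2 * n) := by rw [hQ, mul_pow, eps_pow_two hε, one_mul]
    rw [h1]
    refine hrQ.trans ⟨Q ^ n + 1, ?_⟩
    ring
  have hroot : ∀ a, IsRoot cs hp.isCartan a → ∃ L : (Fin l → ℤ) →+ ℤ,
      ¬ (r : ℤ) ∣ Lq L (theta hp cs w g) (p ^ e) (2 * n) a := by
    intro a ha
    obtain ⟨L, hL⟩ := hreg a ha
    refine ⟨L, fun h1 => ?_⟩
    rw [Lq_eqR hp cs hε hw hR _ hQ] at h1
    rcases hrZ.dvd_mul.1 h1 with h2 | h2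
    · have h3 : (r : ℤ) ∣ 2 := by
        have h4 := dvd_sub h2 hrQ
        have h5 : Q ^ n + 1 - (Q ^ n - 1) = 2 := by ring
        rwa [h5] at h4
      have h4 : r ∣ 2 := by exact_mod_cast h3
      exact hr2 ((Nat.prime_dvd_prime_iff_eq hrp Nat.prime_two).1 h4)
    · exact hL h2
  refine not_same_of_comm hrp hsp hrs (tXr hp S.inj z r) ?_ (tX D k e0 z) (fun a ha b hb => tX_comm hp S.inj z ha hb)
    ?_ ?_ hs
  · rintro ⟨x, hx⟩
    exact ⟨1, Subtype.ext (by rw [pow_one]; exact hx.2)⟩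
  · intro y hy
    rw [Subgroup.mem_centralizer_iff]
    intro x hx
    exact tX_comm hp S.inj z hx.1 hy
  · intro y hyc hyo
    rw [Subgroup.mem_centralizer_iff] at hyc
    set A : Set ↥(D.group k) := {t | (t ∈ TT D k ∧ t ^ r = 1) ∧ ∀ x, cX hp t (theta hp cs w g x) = cX hp t x ^ p ^ e}
    have hAf : A.Finite := (finite_torsion hp hrp.pos).subset fun t ht => ht.1
    have hcomm : ∀ t ∈ A, (z⁻¹ * e0 y * z) * t = t * (z⁻¹ * e0 y * z) := by
      rintro t ⟨⟨ht, htr⟩, htθ⟩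
      obtain ⟨x, hx⟩ := S.exists_of_tau hp cs hz ((tau_iff hp cs S.lf S.frob S.fr hn' ht).2 htθ) hrp hrd ⟨1, by
        rw [pow_one]; exact htr⟩
      have hxr : x ^ r = 1 := by
        apply S.inj
        rw [map_pow, map_one]
        have h1 : e0 x = z * t * z⁻¹ := by rw [← hx]; group
        rw [h1, conj_pow, htr]; group
      have h2 : y * x = x * y := (hyc x ⟨by rw [mem_tX, hx]; exact ht, hxr⟩).symm
      rw [← hx]
      calc z⁻¹ * e0 y * z * (z⁻¹ * e0 x * z) = z⁻¹ * (e0 (y * x)) * z := by rw [map_mul]; group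
        _ = z⁻¹ * (e0 (x * y)) * z := by rw [h2]
        _ = _ := by rw [map_mul]; group
    have hcs : (z⁻¹ * e0 y * z) ^ orderOf y = 1 := by
      rw [S.conj_pow_eq hp cs, pow_orderOf_eq_one, map_one]
      group
    exact mem_TT_of_pow hp cs S.lf p hNs hAf (fun t ht => ht.1.1) (fun a ha => by
      obtain ⟨L, hL⟩ := hroot a ha
      obtain ⟨t, ht, h1, h2, h3⟩ := exists_torsion hp hB hd' hθ hrk hq L hL
      exact ⟨t, ⟨⟨ht, h2⟩, h1⟩, h3⟩) (r := r) (fun t ht => ht.1.2) (orderOf_pos y)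
      ((Nat.Prime.coprime_iff_not_dvd hrp).2 hyo).symm hcomm hcs

/-- **Good primes**: `T` contains a Sylow `r`-subgroup. -/
theorem IsTor.not_same_good [Finite X] {r s : ℕ} (hrp : r.Prime) (hsp : s.Prime) (hrs : r ≠ s)
    (hi : ¬ r ∣ T.index) (hs : s ∣ Nat.card T) : ¬ Same r s X := fun hS =>
  Same.core_abelian hrp hsp hrs hS T (IsTor.isMulCommutative hp cs h) hi hs

end Cfsg.Agent.H755.PQ
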