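import Cfsg.Agent.H755.PQ.TorC
import Cfsg.Agent.H630.ExcRowsB
import Cfsg.Agent.H630.ExcRowsC

/-!
# S4612: tori (`Kill e e`) in the exceptional groups (helper755)

* `tor_F4`, `tor_G2`, `tor_E8`, `tor_E7`, `tor_E6`, `tor_2E6`.
-/

set_option autoImplicit false
set_option linter.unusedSectionVars false
set_option linter.unusedVariables false

namespace Cfsg.Agent.H755.PQ

open CoxeterSystem Cfsg Cfsg.Lie Cfsg.Lie.ChevalleyDatum
open Cfsg.Agent.ChevalleyStructure Cfsg.Agent.ChevalleyStructure.Elts Cfsg.Agent.ChevalleyStructure.CoxeterGeom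
  Cfsg.Agent.ChevalleyStructure.CoxeterGeomTypes Cfsg.Agent.ChevalleyStructure.NPerm
open Cfsg.Agent.Tits.Roots Cfsg.Agent.Tits.Core Cfsg.Agent.Nodes Cfsg.Agent.Nodes.Reps Cfsg.Agent.Nodes.BNOf
  Cfsg.Agent.Nodes.RGDChev Cfsg.Agent.Nodes.Bruhat Cfsg.Agent.Nodes.SubComb Cfsg.Agent.Nodes.Coroot
open Cfsg.Agent.KFacts.RgdField Cfsg.Agent.KFacts.RgdChevCoord Cfsg.Agent.BpExc.TorCent Cfsg.Agent.BpExc.TorChev
open Cfsg.Agent.GpExc.Field Cfsg.Agent.BpExc.Tow Cfsg.Agent.BpExc.TowChev Cfsg.Agent.BpExc.Fr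
  Cfsg.Agent.BpExc.LangFr Cfsg.Agent.LangThm Cfsg.Agent.BpExc Cfsg.Agent.H129.TorusChar Cfsg.Agent.H129.TorusMain
open Cfsg.Agent.H129.TwE6Fr (tau isFrob_tau fr_tau embT embT_injective tau_embT tau_split tau_normal tau_pow flip6
  flip6_apply flip_sr')
open Cfsg.Agent.H630.NH Cfsg.Agent.H630.Exc Cfsg.Agent.H317.PQ Cfsg.Agent.H990.PQ
open Cfsg.Agent.H130.WeylCk Cfsg.Agent.H130.PolyL Cfsg.Agent.H130.WeylTab

universe u v

/-! ### a row with `-1` in the Weyl group -/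

section Row

variable {D : ChevalleyDatum} {l : ℕ} {M : CoxeterMatrix (Fin l)} (hp : IsType D l M)
  {W : Type*} [Group W] (cs : CoxeterSystem M W)

variable {k : Type u} [Field k] {p e : ℕ} [hpF : Fact p.Prime] [CharP k p] {σ : MulAut ↥(D.group k)}
  {g : (Fin l → ℤ) ≃+ (Fin l → ℤ)}
  {X : Type v} [Group X] {e0 : X →* ↥(D.group k)} {d : ℕ} (S : Setup hp cs p e σ g e0 d)

omit [Group W] in
theorem cast_ord (q s : ℕ) : orderOf (((q : ℕ) : ℤ) : ZMod s) = orderOf (q : ZMod s) := by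
  rw [Int.cast_natCast]

include S

/-- `Kill n n` for `n` without bad primes -/
theorem kill_noBad [IsAlgClosed k] [Finite W] [Finite X] {Al : List (List ℤ)} (hA : MatList (cartanOf D l) Al)
    (hT : ∀ w1, HasTor hp cs g 1 w1) {n : ℕ} (hn : 0 < n ∧ n ∈ H130.PolyL.idx) {degs : List ℕ} (hb : NoBad degs n)
    (H : HasF Al l degs n) {N' g' : ℕ}
    (hcard : g' * Nat.card X = (p ^ e) ^ N' * ((degs.map (fun i => ((p ^ e : ℕ) : ℤ) ^ i - 1)).prod).natAbs)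
    (hd : ∀ r : ℕ, r.Prime → r ≠ 2 → r ∣ d → orderOf ((p ^ e : ℕ) : ZMod r) ≠ n) {q : ℕ} (hq : q = p ^ e) :
    Kill X q n n := by
  refine kill_of hpF.out S.pos hq hn.1 fun r s hr hs hrs hr2 hs2 hrp hsp h1 h2 => ?_
  subst hq
  exact not_same_noBad hp cs S (Or.inl rfl) hA hT (one_mul _).symm hn hb H hcard hr hs hrs hr2 hs2 hrp hsp
    (fun h => hd r hr hr2 h h1) (fun h => hd s hs hs2 h h2) (by rw [cast_ord]; exact h1) (by rw [cast_ord]; exact h2)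

/-- `Kill 2 2` with `-1` in the Weyl group -/
theorem kill_two [IsAlgClosed k] [Finite W] [Finite X] (hT : HasTor hp cs g (-1) (1 : W)) (hl : 0 < l)
    (hd : ∀ r : ℕ, r.Prime → r ≠ 2 → ¬ r ∣ d) {q : ℕ} (hq : q = p ^ e) : Kill X q 2 2 := by
  refine kill_of hpF.out S.pos hq (by norm_num) fun r s hr hs hrs hr2 hs2 hrp hsp h1 h2 => ?_
  subst hq
  have key : ∀ r : ℕ, r.Prime → r ≠ 2 → orderOf ((p ^ e : ℕ) : ZMod r) = 2 → (r : ℤ) ∣ -((p ^ e : ℕ) : ℤ) - 1 := by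
    intro r hr hr2 h
    have h3 := ord_neg_two hr hr2 (m := 1) odd_one h
    have h4 := (dvd_pow_sub_one_iff (r := r) (Q := -((p ^ e : ℕ) : ℤ)) 1).2 (by
      rw [Int.cast_neg, Int.cast_natCast, h3])
    rwa [pow_one] at h4
  exact not_same_one hp cs S (Or.inr rfl) hT (Q := -((p ^ e : ℕ) : ℤ)) (by ring) hl hr hs hrs hr2 hs2 hrp hsp
    (hd r hr hr2) (hd s hs hs2) (key r hr hr2 h1) (key s hs hs2 h2)

end Row

/-! ### the rows -/

theorem noBad_F4 : ∀ n ∈ [3, 4, 6, 8, 12], NoBad [2, 6, 8, 12] n := by decide +kernel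
theorem noBad_G2 : ∀ n ∈ [3, 6], NoBad [2, 6] n := by decide +kernel
theorem noBad_E6 : ∀ n ∈ [3, 4, 5, 6, 8, 9, 12], NoBad [2, 5, 6, 8, 9, 12] n := by decide +kernel
theorem noBad_E7 : ∀ n ∈ [3, 4, 5, 6, 7, 8, 9, 10, 12, 14, 18], NoBad [2, 6, 8, 10, 12, 14, 18] n := by
  decide +kernel
theorem noBad_E8 : ∀ n ∈ [3, 5, 6, 7, 8, 9, 10, 12, 14, 15, 18, 20, 24, 30],
    NoBad [2, 8, 12, 14, 18, 20, 24, 30] n := by decide +kernel

theorem hasC_E8_4 : HasC alE8 8 [2, 8, 12, 14, 18, 20, 24, 30] 4 :=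
  ⟨[4, 3, 2, 1, 5, 0, 6, 3, 1, 7, 5, 6], 6, 2, [[1, 0, 1, 0, 0, 0, 0, 1], [1, 1, 1, 0, 0, 0, 0, 0], [1, 0, 1, 0, 0, 0, 1, 1], [1, 0, 0, 0, 0, 0, 0, 0]],
    [[0, -1, 1, 0, -1, 1, 0, -1], [0, 1, -1, 0, -1, 1, 0, 1], [0, 0, 0, -2, 4, -2, 0, 0], [0, 1, -1, 2, -2, -1, 0, 1]], by decide +kernel, Or.inr rfl⟩

theorem hasC_E6_2 : HasC alE6 6 [2, 5, 6, 8, 9, 12] 2 :=
  ⟨[0, 1, 2, 3, 4, 5], 6, 1, [[2, 0, 1, 1, -1, 0], [-1, 0, -1, -1, 0, 0], [1, 0, 0, 1, 0, 1], [0, 1, 0, 0, 0, 0]],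
    [[0, 0, 0, 0, -1, 0], [0, 0, -1, 0, -1, 0], [0, 0, 0, 0, 0, 1], [0, 1, 0, 0, 0, 0]], by decide +kernel, Or.inl rfl⟩

/-- **Type `F₄`.** -/
theorem tor_F4 (F : Type u) [Field F] [Fintype F] : ∀ n ∈ [2, 3, 4, 6, 8, 12],
    Kill ↥(chevF4.group F) (Fintype.card F) n n := by
  obtain ⟨k, _, _, f, p, hpp, hkp, e, hk, hka, he0, hcF⟩ := H378.TorFin.exists_closure F
  have cs := CoxeterMatrix.F₄.toCoxeterSystem
  have hW := finite_W f4T cs
  have hcF' : Fintype.card F = p ^ e := by rw [← Nat.card_eq_fintype_card, hcF]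
  have hd1 : Nat.gcd 1 (Nat.card F - 1) = 1 := Nat.gcd_one_left _
  have S := setup_untw f4T cs hk f he0 hcF' invC_F4 one_ne_zero
  rw [hd1] at S
  have hcard : 1 * Nat.card ↥(chevF4.group F) = (p ^ e) ^ 24 *
      (([2, 6, 8, 12].map (fun i => ((p ^ e : ℕ) : ℤ) ^ i - 1)).prod).natAbs := by
    rw [natAbs_prod _ (pow_pos hpp.out.pos _), one_mul, S1062.result hcF']
    simp only [List.map_cons, List.map_nil, List.prod_cons, List.prod_nil, mul_one]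
    ring
  have hd : ∀ r : ℕ, r.Prime → r ≠ 2 → ¬ r ∣ 1 := fun r hr _ h => hr.one_lt.ne' (Nat.dvd_one.1 h)
  have h1 : (1 : ℤ) = 1 ∨ (1 : ℤ) = -1 := Or.inl rfl
  have h2 : (-1 : ℤ) = 1 ∨ (-1 : ℤ) = -1 := Or.inr rfl
  have main : ∀ n ∈ [3, 4, 6, 8, 12], Kill ↥(chevF4.group F) (Fintype.card F) n n := by
    intro n hn
    have hn' : n ∈ [1, 2, 3, 4, 6, 8, 12] := by
      have : ∀ n ∈ [3, 4, 6, 8, 12], n ∈ [1, 2, 3, 4, 6, 8, 12] := by decide
      exact this n hn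
    exact kill_noBad f4T cs S lists_F4 (hasTor_F4 cs 1 h1) (idx_F4 n hn') (noBad_F4 n hn) (hasF_F4 n hn') hcard
      (fun r hr hr2 h => absurd h (hd r hr hr2)) hcF'
  intro n hn
  rcases List.mem_cons.1 hn with rfl | hn
  · exact kill_two f4T cs S (hasTor_F4 cs (-1) h2 1) (by norm_num) hd hcF'
  · exact main n hn

/-- **Type `G₂`.** -/
theorem tor_G2 (F : Type u) [Field F] [Fintype F] : ∀ n ∈ [2, 3, 6],
    Kill ↥(chevG2.group F) (Fintype.card F) n n := by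
  obtain ⟨k, _, _, f, p, hpp, hkp, e, hk, hka, he0, hcF⟩ := H378.TorFin.exists_closure F
  have cs := CoxeterMatrix.G₂.toCoxeterSystem
  have hW := finite_W g2T cs
  have hcF' : Fintype.card F = p ^ e := by rw [← Nat.card_eq_fintype_card, hcF]
  have hd1 : Nat.gcd 1 (Nat.card F - 1) = 1 := Nat.gcd_one_left _
  have S := setup_untw g2T cs hk f he0 hcF' invC_G2 one_ne_zero
  rw [hd1] at S
  have hcard : 1 * Nat.card ↥(chevG2.group F) = (p ^ e) ^ 6 *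
      (([2, 6].map (fun i => ((p ^ e : ℕ) : ℤ) ^ i - 1)).prod).natAbs := by
    rw [natAbs_prod _ (pow_pos hpp.out.pos _), one_mul, S1059.result hcF']
    simp only [List.map_cons, List.map_nil, List.prod_cons, List.prod_nil, mul_one]
    ring
  have hd : ∀ r : ℕ, r.Prime → r ≠ 2 → ¬ r ∣ 1 := fun r hr _ h => hr.one_lt.ne' (Nat.dvd_one.1 h)
  have h1 : (1 : ℤ) = 1 ∨ (1 : ℤ) = -1 := Or.inl rfl
  have h2 : (-1 : ℤ) = 1 ∨ (-1 : ℤ) = -1 := Or.inr rfl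
  have main : ∀ n ∈ [3, 6], Kill ↥(chevG2.group F) (Fintype.card F) n n := by
    intro n hn
    have hn' : n ∈ [1, 2, 3, 6] := by
      have : ∀ n ∈ [3, 6], n ∈ [1, 2, 3, 6] := by decide
      exact this n hn
    exact kill_noBad g2T cs S lists_G2 (hasTor_G2 cs 1 h1) (idx_G2 n hn') (noBad_G2 n hn) (hasF_G2 n hn') hcard
      (fun r hr hr2 h => absurd h (hd r hr hr2)) hcF'
  intro n hn
  rcases List.mem_cons.1 hn with rfl | hn
  · exact kill_two g2T cs S (hasTor_G2 cs (-1) h2 1) (by norm_num) hd hcF'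
  · exact main n hn

/-- **Type `E₇`.** -/
theorem tor_E7 (F : Type u) [Field F] [Fintype F] : ∀ n ∈ [2, 3, 4, 5, 6, 7, 8, 9, 10, 12, 14, 18],
    Kill ↥(chevE7.group F) (Fintype.card F) n n := by
  obtain ⟨k, _, _, f, p, hpp, hkp, e, hk, hka, he0, hcF⟩ := H378.TorFin.exists_closure F
  have cs := CoxeterMatrix.E₇.toCoxeterSystem
  have hW := finite_W e7T cs
  have hcF' : Fintype.card F = p ^ e := by rw [← Nat.card_eq_fintype_card, hcF]
  obtain ⟨d, hd⟩ : ∃ d, d = Nat.gcd 2 (Nat.card F - 1) := ⟨_, rfl⟩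
  have S := setup_untw e7T cs hk f he0 hcF' invC_E7 two_ne_zero
  rw [← hd] at S
  have hd2 : d ∣ 2 := by rw [hd]; exact Nat.gcd_dvd_left _ _
  have hcard : Nat.gcd 2 (p ^ e - 1) * Nat.card ↥(chevE7.group F) = (p ^ e) ^ 63 *
      (([2, 6, 8, 10, 12, 14, 18].map (fun i => ((p ^ e : ℕ) : ℤ) ^ i - 1)).prod).natAbs := by
    rw [natAbs_prod _ (pow_pos hpp.out.pos _), S1064.result hcF']
    simp only [List.map_cons, List.map_nil, List.prod_cons, List.prod_nil, mul_one]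
    ring
  have hd : ∀ r : ℕ, r.Prime → r ≠ 2 → ¬ r ∣ d := fun r hr hr2 h =>
    hr2 ((Nat.prime_dvd_prime_iff_eq hr Nat.prime_two).1 (h.trans hd2))
  have h1 : (1 : ℤ) = 1 ∨ (1 : ℤ) = -1 := Or.inl rfl
  have h2 : (-1 : ℤ) = 1 ∨ (-1 : ℤ) = -1 := Or.inr rfl
  have main : ∀ n ∈ [3, 4, 5, 6, 7, 8, 9, 10, 12, 14, 18], Kill ↥(chevE7.group F) (Fintype.card F) n n := by
    intro n hn
    have hn' : n ∈ [1, 2, 3, 4, 5, 6, 7, 8, 9, 10, 12, 14, 18] := by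
      have : ∀ n ∈ [3, 4, 5, 6, 7, 8, 9, 10, 12, 14, 18], n ∈ [1, 2, 3, 4, 5, 6, 7, 8, 9, 10, 12, 14, 18] := by decide
      exact this n hn
    exact kill_noBad e7T cs S lists_E7 (hasTor_E7 cs 1 h1) (idx_E7 n hn') (noBad_E7 n hn) (hasF_E7 n hn') hcard
      (fun r hr hr2 h => absurd h (hd r hr hr2)) hcF'
  intro n hn
  rcases List.mem_cons.1 hn with rfl | hn
  · exact kill_two e7T cs S (hasTor_E7 cs (-1) h2 1) (by norm_num) hd hcF'
  · exact main n hn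

/-- **Type `E₈`.** -/
theorem tor_E8 (F : Type u) [Field F] [Fintype F] :
    ∀ n ∈ [2, 3, 4, 5, 6, 7, 8, 9, 10, 12, 14, 15, 18, 20, 24, 30],
    Kill ↥(chevE8.group F) (Fintype.card F) n n := by
  obtain ⟨k, _, _, f, p, hpp, hkp, e, hk, hka, he0, hcF⟩ := H378.TorFin.exists_closure F
  have cs := CoxeterMatrix.E₈.toCoxeterSystem
  have hW := finite_W e8T cs
  have hcF' : Fintype.card F = p ^ e := by rw [← Nat.card_eq_fintype_card, hcF]
  have hd1 : Nat.gcd 1 (Nat.card F - 1) = 1 := Nat.gcd_one_left _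
  have S := setup_untw e8T cs hk f he0 hcF' invC_E8 one_ne_zero
  rw [hd1] at S
  have hcard : 1 * Nat.card ↥(chevE8.group F) = (p ^ e) ^ 120 *
      (([2, 8, 12, 14, 18, 20, 24, 30].map (fun i => ((p ^ e : ℕ) : ℤ) ^ i - 1)).prod).natAbs := by
    rw [natAbs_prod _ (pow_pos hpp.out.pos _), one_mul, S1065.result hcF']
    simp only [List.map_cons, List.map_nil, List.prod_cons, List.prod_nil, mul_one]
    ring
  have hd : ∀ r : ℕ, r.Prime → r ≠ 2 → ¬ r ∣ 1 := fun r hr _ h => hr.one_lt.ne' (Nat.dvd_one.1 h)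
  have h1 : (1 : ℤ) = 1 ∨ (1 : ℤ) = -1 := Or.inl rfl
  have h2 : (-1 : ℤ) = 1 ∨ (-1 : ℤ) = -1 := Or.inr rfl
  have main : ∀ n ∈ [3, 5, 6, 7, 8, 9, 10, 12, 14, 15, 18, 20, 24, 30],
      Kill ↥(chevE8.group F) (Fintype.card F) n n := by
    intro n hn
    have hn' : n ∈ [1, 2, 3, 4, 5, 6, 7, 8, 9, 10, 12, 14, 15, 18, 20, 24, 30] := by
      have : ∀ n ∈ [3, 5, 6, 7, 8, 9, 10, 12, 14, 15, 18, 20, 24, 30],
        n ∈ [1, 2, 3, 4, 5, 6, 7, 8, 9, 10, 12, 14, 15, 18, 20, 24, 30] := by decide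
      exact this n hn
    exact kill_noBad e8T cs S lists_E8 (hasTor_E8 cs 1 h1) (idx_E8 n hn') (noBad_E8 n hn) (hasF_E8 n hn') hcard
      (fun r hr hr2 h => absurd h (hd r hr hr2)) hcF'
  have four : Kill ↥(chevE8.group F) (Fintype.card F) 4 4 := by
    refine kill_of hpp.out he0 hcF' (by norm_num) fun r s hr hs hrs hr2 hs2 hrp hsp hrn hsn => ?_
    rw [hcF'] at hrn hsn
    refine not_same_hasC e8T cs S h1 lists_E8 (hasTor_E8 cs 1 h1) (one_mul _).symm (idx_E8 4 (by decide))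
      (by decide) hasC_E8_4 hcard hr hs hrs hr2 hs2 hrp hsp (hd r hr hr2) (hd s hs hs2)
      (by rw [cast_ord]; exact hrn) (by rw [cast_ord]; exact hsn) ?_
    have key : ∀ i ∈ [2, 8, 12, 14, 18, 20, 24, 30], 4 ∣ i → ∀ r < 31, r.Prime → r ≠ 2 → r ∣ i → r ≤ 5 := by
      decide +kernel
    have hlt : ∀ i ∈ [2, 8, 12, 14, 18, 20, 24, 30], 0 < i ∧ i < 31 := by decide
    have four_dvd : ∀ r : ℕ, r.Prime → r ≠ 2 → r ≠ p → orderOf ((p ^ e : ℕ) : ZMod r) = 4 → 4 ∣ r - 1 := by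
      intro r hr hr2 hrp h
      have hQr := not_dvd_Q (p := p) (e := e) Fact.out hr hrp h1 (one_mul _).symm
      have := H630.Exc.ord_dvd hr hQr
      rwa [cast_ord, h] at this
    by_cases hr5 : r = 5
    · right
      intro i hi hni hsi
      have := key i hi hni s (lt_of_le_of_lt (Nat.le_of_dvd (hlt i hi).1 hsi) (hlt i hi).2) hs hs2 hsi
      have h4 := four_dvd s hs hs2 hsp hsn
      have := hs.two_le
      omega
    · left
      intro i hi hni hri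
      have := key i hi hni r (lt_of_le_of_lt (Nat.le_of_dvd (hlt i hi).1 hri) (hlt i hi).2) hr hr2 hri
      have h4 := four_dvd r hr hr2 hrp hrn
      have := hr.two_le
      omega
  intro n hn
  by_cases h : n ∈ [3, 5, 6, 7, 8, 9, 10, 12, 14, 15, 18, 20, 24, 30]
  · exact main n h
  · have h' : n = 2 ∨ n = 4 := by
      have : ∀ n ∈ [2, 3, 4, 5, 6, 7, 8, 9, 10, 12, 14, 15, 18, 20, 24, 30],
        n ∉ [3, 5, 6, 7, 8, 9, 10, 12, 14, 15, 18, 20, 24, 30] → n = 2 ∨ n = 4 := by decide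
      exact this n hn h
    rcases h' with rfl | rfl
    · exact kill_two e8T cs S (hasTor_E8 cs (-1) h2 1) (by norm_num) hd hcF'
    · exact four

/-- **Type `E₆`.** -/
theorem tor_E6 (F : Type u) [Field F] [Fintype F] : ∀ n ∈ [2, 3, 4, 5, 6, 8, 9, 12],
    Kill ↥(chevE6.group F) (Fintype.card F) n n := by
  obtain ⟨k, _, _, f, p, hpp, hkp, e, hk, hka, he0, hcF⟩ := H378.TorFin.exists_closure F
  have cs := CoxeterMatrix.E₆.toCoxeterSystem
  have hW := finite_W e6T cs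
  have hcF' : Fintype.card F = p ^ e := by rw [← Nat.card_eq_fintype_card, hcF]
  have S := setup_untw e6T cs hk f he0 hcF' invC_E6 three_ne_zero
  have hpos : 0 < p ^ e := pow_pos hpp.out.pos _
  have hcard : Nat.gcd 3 (p ^ e - 1) * Nat.card ↥(chevE6.group F) = (p ^ e) ^ 36 *
      (([2, 5, 6, 8, 9, 12].map (fun i => ((p ^ e : ℕ) : ℤ) ^ i - 1)).prod).natAbs := by
    rw [natAbs_prod _ hpos, S1063.result hcF']
    simp only [List.map_cons, List.map_nil, List.prod_cons, List.prod_nil, mul_one]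
    ring
  have hd : ∀ r : ℕ, r.Prime → r ∣ Nat.gcd 3 (Nat.card F - 1) → orderOf ((p ^ e : ℕ) : ZMod r) = 1 := by
    intro r hr h
    rw [← hcF', ← Nat.card_eq_fintype_card]
    exact (ord_eq_one Nat.card_pos).2 (h.trans (Nat.gcd_dvd_right _ _))
  have h1 : (1 : ℤ) = 1 ∨ (1 : ℤ) = -1 := Or.inl rfl
  have main : ∀ n ∈ [3, 4, 5, 6, 8, 9, 12], Kill ↥(chevE6.group F) (Fintype.card F) n n := by
    intro n hn
    have hn' : n ∈ [1, 2, 3, 4, 5, 6, 8, 9, 12] ∧ n ≠ 1 := by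
      have : ∀ n ∈ [3, 4, 5, 6, 8, 9, 12], n ∈ [1, 2, 3, 4, 5, 6, 8, 9, 12] ∧ n ≠ 1 := by decide
      exact this n hn
    exact kill_noBad e6T cs S lists_E6 (hasTor_one e6T cs) (idx_E6 n hn'.1) (noBad_E6 n hn) (hasF_E6 n hn'.1) hcard
      (fun r hr hr2 h => by rw [hd r hr h]; exact hn'.2.symm) hcF'
  intro n hn
  rcases List.mem_cons.1 hn with rfl | hn
  · refine kill_of hpp.out he0 hcF' (by norm_num) fun r s hr hs hrs hr2 hs2 hrp hsp hrn hsn => ?_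
    rw [hcF'] at hrn hsn
    refine not_same_hasC e6T cs S h1 lists_E6 (hasTor_one e6T cs) (one_mul _).symm (idx_E6 2 (by decide))
      (by decide) hasC_E6_2 hcard hr hs hrs hr2 hs2 hrp hsp (fun h => by rw [hd r hr h] at hrn; omega)
      (fun h => by rw [hd s hs h] at hsn; omega)
      (by rw [cast_ord]; exact hrn) (by rw [cast_ord]; exact hsn) ?_
    have key : ∀ i ∈ [2, 5, 6, 8, 9, 12], 2 ∣ i → ∀ r < 13, r.Prime → r ≠ 2 → r ∣ i → r = 3 := by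
      decide +kernel
    by_cases hr3 : r = 3
    · right
      intro i hi hni hsi
      have := key i hi hni s (lt_of_le_of_lt (Nat.le_of_dvd (lt_E6 i hi).1 hsi) (lt_E6 i hi).2) hs hs2 hsi
      exact hrs (hr3.trans this.symm)
    · left
      intro i hi hni hri
      exact hr3 (key i hi hni r (lt_of_le_of_lt (Nat.le_of_dvd (lt_E6 i hi).1 hri) (lt_E6 i hi).2) hr hr2 hri)
  · exact main n hn

end Cfsg.Agent.H755.PQ
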