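import Cfsg.Agent.H755.PQ.TorTwo

/-!
# S4612: the pair `3`, `l ∣ Φ₆(q)` for `q ≡ 2 mod 3` in `F₄(q)`, `³D₄(q)` (helper755)

The torus `Φ₆(q)²` contains a Sylow `l`-subgroup and `3 ∣ Φ₆(q)`.
-/

set_option autoImplicit false
set_option linter.unusedSectionVars false
set_option linter.unusedVariables false

namespace Cfsg.Agent.H755.PQ

open CoxeterSystem Cfsg Cfsg.Lie Cfsg.Lie.ChevalleyDatum
open Cfsg.Agent.ChevalleyStructure Cfsg.Agent.ChevalleyStructure.Elts Cfsg.Agent.ChevalleyStructure.CoxeterGeom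
  Cfsg.Agent.ChevalleyStructure.CoxeterGeomTypes Cfsg.Agent.ChevalleyStructure.NPerm
open Cfsg.Agent.Tits.Roots Cfsg.Agent.Tits.Core Cfsg.Agent.Nodes Cfsg.Agent.Nodes.Reps Cfsg.Agent.Nodes.BNOf
  Cfsg.Agent.Nodes.RGDChev Cfsg.Agent.Nodes.Bruhat Cfsg.Agent.Nodes.SubComb Cfsg.Agent.Nodes.Coroot
open Cfsg.Agent.KFacts.RgdField Cfsg.Agent.KFacts.RgdChevCoord Cfsg.Agent.BpExc.TorCent Cfsg.Agent.BpExc.TorChev
open Cfsg.Agent.GpExc.Field Cfsg.Agent.BpExc.Tow Cfsg.Agent.BpExc.TowChev Cfsg.Agent.BpExc.Fr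
  Cfsg.Agent.BpExc.LangFr Cfsg.Agent.LangThm Cfsg.Agent.BpExc Cfsg.Agent.H129.TorusChar Cfsg.Agent.H129.TorusMain
open Cfsg.Agent.H630.NH Cfsg.Agent.H630.Exc Cfsg.Agent.H317.PQ Cfsg.Agent.H990.PQ
open Cfsg.Agent.H130.WeylCk Cfsg.Agent.H130.PolyL Cfsg.Agent.H130.WeylTab

universe u v

/-- divisibility of a linear form -/
theorem dvd_of_basis {l : ℕ} (f : (Fin l → ℤ) →ₗ[ℤ] ℤ) {m : ℤ} (h : ∀ i : Fin l, m ∣ f (Pi.single i 1)) (x : Fin l → ℤ) :
    m ∣ f x := by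
  rw [LinearMap.pi_apply_eq_sum_univ f x]
  refine Finset.dvd_sum fun i _ => ?_
  rw [smul_eq_mul]
  have h1 : (fun j => if i = j then (1 : ℤ) else 0) = Pi.single i 1 := by
    funext j
    by_cases hij : i = j
    · subst hij; simp
    · rw [if_neg hij, Pi.single_eq_of_ne (Ne.symm hij)]
  rw [h1]
  exact (h i).mul_left _

/-- an eigenvector modulo `m` from the values at the basis -/
theorem eig_of_basis {l : ℕ} (R : Module.End ℤ (Fin l → ℤ)) (L : (Fin l → ℤ) →+ ℤ) {m Q : ℤ} (hQ : m ∣ Q - 1)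
    (h : ∀ i : Fin l, m ∣ L (R (Pi.single i 1)) - L (Pi.single i 1)) (x : Fin l → ℤ) :
    m ∣ L (R x) - Q * L x := by
  have h1 := dvd_of_basis (L.toIntLinearMap ∘ₗ R - L.toIntLinearMap) (m := m) h x
  have h2 : L (R x) - Q * L x = (L.toIntLinearMap ∘ₗ R - L.toIntLinearMap) x - (Q - 1) * L x := by
    show _ = (L (R x) - L x) - (Q - 1) * L x
    ring
  rw [h2]
  exact dvd_sub h1 (hQ.mul_right _)

theorem cert_F4_3 : Cert alF4 4 3 2 [0, 1, 2, 3] 4 2 [[0, 0, 1, 1], [0, 0, 1, 0]]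
    [[1, -1, 0, 0], [-2, 1, 0, 0]] := by decide +kernel

theorem mat_F4_3 : ∀ i : Fin 4, acn alF4 ([0, 1, 2, 3] : List (Fin 4)) 4 (bas 4 i) =
    ([[0, 1, 1, 0], [1, 1, 1, 1], [-2, -2, -2, -1], [0, -2, -1, -1]] : List (List ℤ)).getD i [] := by decide +kernel

theorem ne_of_ord {p e : ℕ} (he : 0 < e) {q : ℕ} (hq : q = p ^ e) :
    ∀ s : ℕ, s.Prime → ∀ n, 0 < n → ord q s = n → s ≠ p := by
  rintro s hs n hn h rfl
  have : Fact s.Prime := ⟨hs⟩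
  have h1 : ((q : ℕ) : ZMod s) = 0 := by
    rw [ZMod.natCast_eq_zero_iff, hq]
    exact dvd_pow_self _ he.ne'
  have h2 : orderOf ((q : ℕ) : ZMod s) = 0 := by
    rw [h1, orderOf_eq_zero_iff']
    intro m hm
    rw [zero_pow hm.ne']
    exact zero_ne_one
  rw [ord, h2] at h
  omega

theorem ne_two_of_ord {q s n : ℕ} (hn : 1 < n) (h : ord q s = n) : s ≠ 2 := by
  rintro rfl
  have h1 : ∀ x : ZMod 2, x = 0 ∨ x = 1 := by decide
  rcases h1 (q : ZMod 2) with h2 | h2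
  · have h3 : orderOf ((q : ℕ) : ZMod 2) = 0 := by
      rw [h2, orderOf_eq_zero_iff']
      intro m hm
      rw [zero_pow hm.ne']
      decide
    rw [ord, h3] at h
    omega
  · rw [ord, h2, orderOf_one] at h
    omega

/-- **`F₄`**: `3` and `l ∣ Φ₆(q)`. -/
theorem not_same_three_F4 (F : Type u) [Field F] [Fintype F] {s : ℕ} (hs : s.Prime)
    (h3 : ord (Fintype.card F) 3 = 2) (hsn : ord (Fintype.card F) s = 6) : ¬ Same 3 s ↥(chevF4.group F) := by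
  obtain ⟨k, _, _, f, p, hpp, hkp, e, hk, hka, he0, hcF⟩ := H378.TorFin.exists_closure F
  have cs := CoxeterMatrix.F₄.toCoxeterSystem
  have hW := finite_W f4T cs
  have hcF' : Fintype.card F = p ^ e := by rw [← Nat.card_eq_fintype_card, hcF]
  have hd1 : Nat.gcd 1 (Nat.card F - 1) = 1 := Nat.gcd_one_left _
  have S := setup_untw f4T cs hk f he0 hcF' invC_F4 one_ne_zero
  rw [hd1] at S
  have hcard : 1 * Nat.card ↥(chevF4.group F) = (p ^ e) ^ 24 *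
      (([2, 6, 8, 12].map (fun i => (-((p ^ e : ℕ) : ℤ)) ^ i - 1)).prod).natAbs := by
    have h1 : ([2, 6, 8, 12].map (fun i => (-((p ^ e : ℕ) : ℤ)) ^ i - 1)) =
        ([2, 6, 8, 12].map (fun i => ((p ^ e : ℕ) : ℤ) ^ i - 1)) := by
      simp only [List.map_cons, List.map_nil]
      rw [Even.neg_pow (by decide), Even.neg_pow (by decide), Even.neg_pow (by decide), Even.neg_pow (by decide)]
    rw [h1, natAbs_prod _ (pow_pos hpp.out.pos _), one_mul, S1062.result hcF']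
    simp only [List.map_cons, List.map_nil, List.prod_cons, List.prod_nil, mul_one]
    ring
  have hd : ∀ r : ℕ, r.Prime → ¬ r ∣ 1 := fun r hr h => hr.one_lt.ne' (Nat.dvd_one.1 h)
  have hε : (-1 : ℤ) = 1 ∨ (-1 : ℤ) = -1 := Or.inr rfl
  have hQ : -((p ^ e : ℕ) : ℤ) = -1 * (p ^ e : ℕ) := by ring
  have h3p := ne_of_ord he0 hcF' 3 Nat.prime_three 2 (by norm_num) h3
  have hsp := ne_of_ord he0 hcF' s hs 6 (by norm_num) hsn
  have hs2 := ne_two_of_ord (by norm_num) hsn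
  have hs3 : s ≠ 3 := by rintro rfl; rw [h3] at hsn; omega
  rw [hcF'] at h3 hsn
  have hc' : ∀ s : ℕ, ((-((p ^ e : ℕ) : ℤ) : ℤ) : ZMod s) = -((p ^ e : ℕ) : ZMod s) := fun s => by
    rw [Int.cast_neg, Int.cast_natCast]
  have h3n : orderOf ((-((p ^ e : ℕ) : ℤ) : ℤ) : ZMod 3) = 1 := by
    rw [hc']
    exact ord_neg_two Nat.prime_three (by norm_num) (m := 1) odd_one h3
  have hsn' : orderOf ((-((p ^ e : ℕ) : ℤ) : ℤ) : ZMod s) = 3 := by
    rw [hc']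
    exact ord_neg_two hs hs2 (m := 3) (by decide) hsn
  have h3Q : ((3 : ℕ) : ℤ) ∣ -((p ^ e : ℕ) : ℤ) - 1 := by
    have := (dvd_pow_sub_one_iff (r := 3) (Q := -((p ^ e : ℕ) : ℤ)) 1).2 (by rw [h3n])
    rwa [pow_one] at this
  obtain ⟨T, hTor⟩ := exists_isTor f4T cs S (hasTor_F4 cs (-1) hε (cs.wordProd [0, 1, 2, 3] ^ 4))
  have hR := rep_pow_eq_one f4T cs lists_F4 [0, 1, 2, 3] 4 3 cert_F4_3.1
  have hQs := not_dvd_Q (p := p) (e := e) Fact.out hs hsp hε hQ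
  have hn3 : 3 ∣ s - 1 := by rw [← hsn']; exact H630.Exc.ord_dvd hs hQs
  have hfs := exists_prod hs hQs [2, 6, 8, 12] (by
    rw [hsn']; exact (noBad_F4 3 (by decide)).not_dvd hs hs2 hn3)
  rw [hsn'] at hfs
  obtain ⟨x, y, hx, hy⟩ := cert_data f4T cs lists_F4 (n := 3) (by decide) cert_F4_3
  have hi := IsTor.not_dvd_index f4T cs hTor hε hs hsp (hd s hs) hs2 hQ (by norm_num) hsn' hR dvd_rfl
    (fun h => hs3 ((Nat.prime_dvd_prime_iff_eq hs Nat.prime_three).1 h)) x y 2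
    (not_dvd_c (Or.inr rfl) hs hs2) hx hy hcard hfs
  have h3T : 3 ∣ Nat.card T := by
    refine IsTor.dvd_card_L f4T cs hTor Nat.prime_three h3p (by norm_num) hε hQ (coordF 4 0 + coordF 4 2 + coordF 4 3)
      (eig_of_basis _ _ h3Q fun i => ?_) (x0 := Pi.single 0 1) ?_
    · rw [rep_single f4T cs lists_F4 [0, 1, 2, 3] 4 mat_F4_3 i]
      have : ∀ i : Fin 4, ((3 : ℕ) : ℤ) ∣ (coordF 4 0 + coordF 4 2 + coordF 4 3) (toFn 4
          (([[0, 1, 1, 0], [1, 1, 1, 1], [-2, -2, -2, -1], [0, -2, -1, -1]] : List (List ℤ)).getD i [])) -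
          (coordF 4 0 + coordF 4 2 + coordF 4 3) (Pi.single i 1) := by
        decide
      exact this i
    · decide
  exact fun h => IsTor.not_same_good f4T cs hTor hs Nat.prime_three hs3 hi h3T h.symm

open Cfsg.Agent.H129.TriD4 (tau isFrob_tau fr_tau embT embT_injective tau_embT tau_range tri tri_apply tri_sr
  tri_three) in
/-- **`³D₄`**: `3` and `l ∣ Φ₆(q)`. -/
theorem not_same_three_3D4 (F : Type u) [Field F] [Fintype F] {q : ℕ} (hq : IsPrimePow q)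
    (hF : Fintype.card F = q ^ 3) {s : ℕ} (hs : s.Prime)
    (h3 : ord q 3 = 2) (hsn : ord q s = 6) : ¬ Same 3 s ↥(twistedD4 F q) := by
  obtain ⟨k, _, _, f, p, hpp, hkp, e', hk, hka, he0', hcF⟩ := H378.TorFin.exists_closure F
  obtain ⟨e, he0, hqe⟩ : ∃ e, 0 < e ∧ q = p ^ e := by
    obtain ⟨r', e, hr', he, rfl⟩ := hq
    have h1 : r' ∣ p ^ e' := by
      rw [← hcF, Nat.card_eq_fintype_card, hF]
      exact (dvd_pow_self r' he.ne').trans (dvd_pow_self _ three_ne_zero)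
    have h2 : r' = p := (Nat.prime_dvd_prime_iff_eq hr'.nat_prime hpp.out).1 (hr'.nat_prime.dvd_of_dvd_pow h1)
    exact ⟨e, he, by rw [h2]⟩
  have cs := coxeterD4.toCoxeterSystem
  have hW := finite_W RGDTwD4.hp cs
  have S := setup_twD4 cs hk f he0 hqe hq hF
  have hcard : 1 * Nat.card ↥(twistedD4 F q) = (p ^ e) ^ 12 * (fsD4 (-((p ^ e : ℕ) : ℤ))).natAbs := by
    have hev : fsD4 (-((p ^ e : ℕ) : ℤ)) = fsD4 ((p ^ e : ℕ) : ℤ) := by unfold fsD4; ring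
    rw [hev, S1067.result hq hF, ← hqe, one_mul, fsD4, Int.natAbs_mul, Int.natAbs_mul]
    have ev : ∀ i : ℕ, ((q : ℤ) ^ i - 1).natAbs = q ^ i - 1 := by
      intro i
      have h1 : 1 ≤ q ^ i := Nat.one_le_pow _ _ hq.pos
      have h2 : ((q : ℕ) : ℤ) ^ i - 1 = ((q ^ i - 1 : ℕ) : ℤ) := by push_cast [Nat.cast_sub h1]; ring
      rw [h2, Int.natAbs_natCast]
    have e8 : ((q : ℤ) ^ 8 + (q : ℤ) ^ 4 + 1).natAbs = q ^ 8 + q ^ 4 + 1 := by
      have : (q : ℤ) ^ 8 + (q : ℤ) ^ 4 + 1 = ((q ^ 8 + q ^ 4 + 1 : ℕ) : ℤ) := by push_cast; ring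
      rw [this, Int.natAbs_natCast]
    rw [ev, ev, e8]
    ring
  have hd : ∀ s : ℕ, s.Prime → ¬ s ∣ 1 := fun s hs h => hs.one_lt.ne' (Nat.dvd_one.1 h)
  have hε : (-1 : ℤ) = 1 ∨ (-1 : ℤ) = -1 := Or.inr rfl
  have hQ : -((p ^ e : ℕ) : ℤ) = -1 * (p ^ e : ℕ) := by ring
  have h3p := ne_of_ord he0 hqe 3 Nat.prime_three 2 (by norm_num) h3
  have hsp := ne_of_ord he0 hqe s hs 6 (by norm_num) hsn
  have hs2 := ne_two_of_ord (by norm_num) hsn
  have hs3 : s ≠ 3 := by rintro rfl; rw [h3] at hsn; omega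
  rw [hqe] at h3 hsn
  have hc' : ∀ s : ℕ, ((-((p ^ e : ℕ) : ℤ) : ℤ) : ZMod s) = -((p ^ e : ℕ) : ZMod s) := fun s => by
    rw [Int.cast_neg, Int.cast_natCast]
  have h3n : orderOf ((-((p ^ e : ℕ) : ℤ) : ℤ) : ZMod 3) = 1 := by
    rw [hc']
    exact ord_neg_two Nat.prime_three (by norm_num) (m := 1) odd_one h3
  have hrn : orderOf ((-((p ^ e : ℕ) : ℤ) : ℤ) : ZMod s) = 3 := by
    rw [hc']
    exact ord_neg_two hs hs2 (m := 3) (by decide) hsn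
  have h3Q : ((3 : ℕ) : ℤ) ∣ -((p ^ e : ℕ) : ℤ) - 1 := by
    have := (dvd_pow_sub_one_iff (r := 3) (Q := -((p ^ e : ℕ) : ℤ)) 1).2 (by rw [h3n])
    rwa [pow_one] at this
  obtain ⟨Q, hQd⟩ : ∃ Q, Q = -((p ^ e : ℕ) : ℤ) := ⟨_, rfl⟩
  rw [← hQd] at hcard hQ hrn h3Q
  obtain ⟨T, hTor⟩ := exists_isTorR RGDTwD4.hp cs S (has_R cs (cs.wordProd [0, 1, 0, 2, 1, 3, 1, 0]) hε)
  have hdeg := natDegree_cyclotomic_eq (n := 3) (by decide)
  have hrZ := Nat.prime_iff_prime_int.1 hs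
  have hfs : ∃ R', fsD4 Q = (Polynomial.cyclotomic 3 ℤ).eval Q ^ 2 * R' ∧ ¬ (s : ℤ) ∣ R' := by
    have hno : ∀ n : ℕ, ¬ 3 ∣ n → ¬ (s : ℤ) ∣ Q ^ n - 1 := fun n hn h => hn (by
      have := (dvd_pow_sub_one_iff n).1 h
      rwa [hrn] at this)
    have h3 : (s : ℤ) ∣ Q ^ 3 - 1 := (dvd_pow_sub_one_iff 3).2 (by rw [hrn])
    have hr2' : ¬ (s : ℤ) ∣ 2 := fun h => hs2 ((Nat.prime_dvd_prime_iff_eq hs Nat.prime_two).1 (by exact_mod_cast h))
    have hp3 : ¬ (s : ℤ) ∣ Q ^ 3 + 1 := fun h => hr2' (by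
      have := dvd_sub h h3
      rwa [show Q ^ 3 + 1 - (Q ^ 3 - 1) = 2 by ring] at this)
    have hp6 : ¬ (s : ℤ) ∣ Q ^ 6 + 1 := fun h => hr2' (by
      have := dvd_sub h (h3.trans (show Q ^ 3 - 1 ∣ Q ^ 6 - 1 from ⟨Q ^ 3 + 1, by ring⟩))
      rwa [show Q ^ 6 + 1 - (Q ^ 6 - 1) = 2 by ring] at this)
    refine ⟨(Q ^ 2 - 1) * ((Q ^ 2 - 1) * (Q ^ 2 - Q + 1)) * ((Q ^ 2 - Q + 1) * (Q ^ 4 - Q ^ 2 + 1)), ?_, ?_⟩
    · rw [eval_cyc3, fsD4]
      ring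
    · intro h
      have e2 := hno 2 (by norm_num)
      have e6 : ¬ (s : ℤ) ∣ Q ^ 2 - Q + 1 := fun h => hp3 (h.trans ⟨Q + 1, by ring⟩)
      have e12 : ¬ (s : ℤ) ∣ Q ^ 4 - Q ^ 2 + 1 := fun h => hp6 (h.trans ⟨Q ^ 2 + 1, by ring⟩)
      rcases hrZ.dvd_mul.1 h with h | h
      · rcases hrZ.dvd_mul.1 h with h | h
        · exact e2 h
        · rcases hrZ.dvd_mul.1 h with h | h
          · exact e2 h
          · exact e6 h
      · rcases hrZ.dvd_mul.1 h with h | h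
        · exact e6 h
        · exact e12 h
  have hi : ¬ s ∣ T.index := by
    refine IsTor.not_dvd_index RGDTwD4.hp cs hTor hε hs hsp (hd s hs) hs2 hQ (by norm_num) hrn
      (pow_one_of len3 (RR3 cs) it3) dvd_rfl
      (fun h => hs3 ((Nat.prime_dvd_prime_iff_eq hs Nat.prime_three).1 h)) (a := 2)
      (fun i => toFn 4 (([[0, 0, 0, 1], [0, 0, 1, 0]] : List (List ℤ)).getD i []))
      (fun i => fn 4 (([[-1, 0, 0, 0], [1, -1, 0, 0]] : List (List ℤ)).getD i [])) 1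
      (not_dvd_c (Or.inl rfl) hs hs2) ?_ ?_ hcard hfs
    · intro i
      rw [cyclotomic_eq 3 (by decide), aeval_zero_of len3 (RR3 cs) cy3, LinearMap.zero_apply]
    · intro i i' j hj
      have hck : ∀ i i' : Fin 2, ∀ j < 2, dot (([[-1, 0, 0, 0], [1, -1, 0, 0]] : List (List ℤ)).getD i [])
          (itL 4 m3 j (([[0, 0, 0, 1], [0, 0, 1, 0]] : List (List ℤ)).getD i' [])) =
          if i = i' ∧ j + 1 = 2 then 1 else 0 := by decide +kernel
      have hlen : ∀ i : Fin 2, (([[-1, 0, 0, 0], [1, -1, 0, 0]] : List (List ℤ)).getD i []).length = 4 ∧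
        (([[0, 0, 0, 1], [0, 0, 1, 0]] : List (List ℤ)).getD i []).length = 4 := by decide
      have hd : (Polynomial.cyclotomic 3 ℤ).natDegree = 2 := by
        have : (cycL 3).length = 3 := rfl
        omega
      rw [hd] at hj ⊢
      obtain ⟨h1, h2⟩ := toFn_itL len3.1 len3.2 (RR3 cs) j _ (hlen i').2
      rw [← h2, ← hck i i' j hj, dot_eq _ _ (hlen i).1 h1]
      rfl
  have h3T : 3 ∣ Nat.card T := by
    refine IsTor.dvd_card_L RGDTwD4.hp cs hTor Nat.prime_three h3p (by norm_num) hε hQ (coordF 4 0 + coordF 4 3)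
      (eig_of_basis _ _ h3Q fun i => ?_) (x0 := Pi.single 0 1) ?_
    · rw [RR3]
      have : ∀ i : Fin 4, ((3 : ℕ) : ℤ) ∣ (coordF 4 0 + coordF 4 3) (toFn 4 (m3.getD i [])) -
          (coordF 4 0 + coordF 4 3) (Pi.single i 1) := by
        decide
      exact this i
    · decide
  exact fun h => IsTor.not_same_good RGDTwD4.hp cs hTor hs Nat.prime_three hs3 hi h3T h.symm

end Cfsg.Agent.H755.PQ
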