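import Cfsg.Agent.H755.PQ.TorC
import Cfsg.Agent.H630.ExcRowsD

/-!
# S4612: tori (`Kill e e`) in `³D₄(q)` (helper755)

* `IsTor.not_same_regT` : the criterion with `RegT`;
* `IsTor.dvd_card_L` : a prime dividing the order of the torus from an eigenvector;
* `tor_3D4`.
-/

set_option autoImplicit false
set_option linter.unusedSectionVars false
set_option linter.unusedVariables false

namespace Cfsg.Agent.H755.PQ

open CoxeterSystem Cfsg Cfsg.Lie Cfsg.Lie.ChevalleyDatum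
open Cfsg.Agent.ChevalleyStructure Cfsg.Agent.ChevalleyStructure.Elts Cfsg.Agent.ChevalleyStructure.CoxeterGeom
  Cfsg.Agent.ChevalleyStructure.CoxeterGeomTypes Cfsg.Agent.ChevalleyStructure.NPerm
open Cfsg.Agent.Tits.Roots Cfsg.Agent.Tits.Core Cfsg.Agent.Nodes Cfsg.Agent.Nodes.Reps Cfsg.Agent.Nodes.BNOf
  Cfsg.Agent.Nodes.RGDChev Cfsg.Agent.Nodes.Bruhat Cfsg.Agent.Nodes.SubComb Cfsg.Agent.Nodes.Coroot
open Cfsg.Agent.KFacts.RgdField Cfsg.Agent.KFacts.RgdChevCoord Cfsg.Agent.BpExc.TorCent Cfsg.Agent.BpExc.TorChev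
open Cfsg.Agent.GpExc.Field Cfsg.Agent.BpExc.Tow Cfsg.Agent.BpExc.TowChev Cfsg.Agent.BpExc.Fr
  Cfsg.Agent.BpExc.LangFr Cfsg.Agent.LangThm Cfsg.Agent.BpExc Cfsg.Agent.H129.TorusChar Cfsg.Agent.H129.TorusMain
open Cfsg.Agent.H129.TorAct (cX_tau tau_mem exists_theta)
open Cfsg.Agent.H630.NH Cfsg.Agent.H630.Exc Cfsg.Agent.H317.PQ Cfsg.Agent.H990.PQ
open Cfsg.Agent.H130.WeylCk Cfsg.Agent.H130.PolyL

universe u v

section Gen

variable {D : ChevalleyDatum} {l : ℕ} {M : CoxeterMatrix (Fin l)} (hp : IsType D l M)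
  {W : Type*} [Group W] (cs : CoxeterSystem M W)

variable {k : Type u} [Field k] {p e : ℕ} [hpF : Fact p.Prime] [CharP k p] {σ : MulAut ↥(D.group k)}
  {g : (Fin l → ℤ) ≃+ (Fin l → ℤ)}
  {X : Type v} [Group X] {e0 : X →* ↥(D.group k)} {d : ℕ} {S : Setup hp cs p e σ g e0 d}
  {ε : ℤ} {R : Module.End ℤ (Fin l → ℤ)} {T : Subgroup X} (h : IsTor hp cs S ε R T)

include h

/-- **The criterion with `RegT`.** -/
theorem IsTor.not_same_regT [IsAlgClosed k] [Finite W] [Finite X] {r s : ℕ} (hrp : r.Prime)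
    (hsp : s.Prime) (hrs : r ≠ s) (hrd : ¬ r ∣ d)
    (hreg : ∀ w : W, (∀ x, theta hp cs w g x = ε • R x) → RegT k hp cs w g (p ^ e) r)
    (hs : s ∣ Nat.card T) : ¬ Same r s X := by
  have : Fact r.Prime := ⟨hrp⟩
  obtain ⟨w, n', z, hw, hn', hz, rfl⟩ := h
  have hNs := S.nsys hp cs
  have hreg' := hreg w hw
  refine not_same_of_comm hrp hsp hrs (tXr hp S.inj z r) ?_ (tX D k e0 z) (fun a ha b hb => tX_comm hp S.inj z ha hb)
    ?_ ?_ hs
  · rintro ⟨x, hx⟩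
    exact ⟨1, Subtype.ext (by rw [pow_one]; exact hx.2)⟩
  · intro y hy
    rw [Subgroup.mem_centralizer_iff]
    intro x hx
    exact tX_comm hp S.inj z hx.1 hy
  · intro y hyc hyo
    rw [Subgroup.mem_centralizer_iff] at hyc
    set A : Set ↥(D.group k) := {t | (t ∈ TT D k ∧ t ^ r = 1) ∧ ∀ x, cX hp t (theta hp cs w g x) = cX hp t x ^ p ^ e}
    have hAf : A.Finite := (finite_torsion hp hrp.pos).subset fun t ht => ht.1
    have hcomm : ∀ t ∈ A, (z⁻¹ * e0 y * z) * t = t * (z⁻¹ * e0 y * z) := by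
      rintro t ⟨⟨ht, htr⟩, htθ⟩
      obtain ⟨x, hx⟩ := S.exists_of_tau hp cs hz ((tau_iff hp cs S.lf S.frob S.fr hn' ht).2 htθ) hrp hrd ⟨1, by
        rw [pow_one]; exact htr⟩
      have hxr : x ^ r = 1 := by
        apply S.inj
        rw [map_pow, map_one]
        have h1 : e0 x = z * t * z⁻¹ := by rw [← hx]; group
        rw [h1, conj_pow, htr]; group
      have h2 : y * x = x * y := (hyc x ⟨by rw [mem_tX, hx]; exact ht, hxr⟩).symm
      rw [← hx]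
      calc z⁻¹ * e0 y * z * (z⁻¹ * e0 x * z) = z⁻¹ * (e0 (y * x)) * z := by rw [map_mul]; group
        _ = z⁻¹ * (e0 (x * y)) * z := by rw [h2]
        _ = _ := by rw [map_mul]; group
    have hcs : (z⁻¹ * e0 y * z) ^ orderOf y = 1 := by
      rw [S.conj_pow_eq hp cs, pow_orderOf_eq_one, map_one]
      group
    exact mem_TT_of_pow hp cs S.lf p hNs hAf (fun t ht => ht.1.1) (fun a ha => by
      obtain ⟨t, ht, h1, h2, h3⟩ := hreg' a ha
      exact ⟨t, ⟨⟨ht, h2⟩, h1⟩, h3⟩) (r := r) (fun t ht => ht.1.2) (orderOf_pos y)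
      ((Nat.Prime.coprime_iff_not_dvd hrp).2 hyo).symm hcomm hcs

/-- **A prime dividing the order of the torus**, from an eigenvector `L` modulo `s`. -/
theorem IsTor.dvd_card_L [IsAlgClosed k] [Finite W] [Finite X] {s : ℕ} (hsp : s.Prime) (hsc : s ≠ p) (hsd : ¬ s ∣ d)
    (hε : ε = 1 ∨ ε = -1) {Q : ℤ} (hQ : Q = ε * (p ^ e : ℕ)) (L : (Fin l → ℤ) →+ ℤ)
    (hL : ∀ x, (s : ℤ) ∣ L (R x) - Q * L x) {x0 : Fin l → ℤ} (hx0 : ¬ (s : ℤ) ∣ L x0) : s ∣ Nat.card T := by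
  have : Fact s.Prime := ⟨hsp⟩
  obtain ⟨w, n', z, hw, hn', hz, rfl⟩ := h
  have hsk : (s : k) ≠ 0 := by
    rw [Ne, CharP.cast_eq_zero_iff k p]
    intro h
    exact hsc ((Nat.prime_dvd_prime_iff_eq (Fact.out : p.Prime) hsp).1 h).symm
  obtain ⟨B, d', hd', hB⟩ := S.inv
  obtain ⟨t, ht, h1, h2, h3⟩ := exists_torsionL hp hB hd' (θ := theta hp cs w g) (q := p ^ e) hsk L (fun x => by
    have h4 : L (theta hp cs w g x) - ((p ^ e : ℕ) : ℤ) * L x = ε * (L (R x) - Q * L x) := by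
      rw [hw, map_zsmul, smul_eq_mul, hQ]
      rcases hε with rfl | rfl <;> ring
    rw [h4]
    exact (hL x).mul_left _)
  obtain ⟨x, hx, hxs⟩ := S.exists_of_torsion hp cs hn' hz hsp hsd ht h1 (j := 1) (by rw [pow_one]; exact h2)
  rw [pow_one] at hxs
  have hxT : x ∈ tX D k e0 z := by rw [mem_tX, hx]; exact ht
  have hne : x ≠ 1 := by
    rintro rfl
    rw [map_one, mul_one, inv_mul_cancel] at hx
    apply hx0
    rw [← h3, ← hx, cX_one]
  have hord : orderOf x = s := orderOf_eq_prime hxs hne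
  have h3 : orderOf (⟨x, hxT⟩ : tX D k e0 z) = s := by
    rw [← Subgroup.orderOf_coe]
    exact hord
  rw [← h3]
  exact orderOf_dvd_natCard _

end Gen

open Cfsg.Agent.H129.TriD4 (tau isFrob_tau fr_tau embT embT_injective tau_embT tau_range tri tri_apply tri_sr
  tri_three) in
/-- **Type `³D₄`.** -/
theorem tor_3D4 (F : Type u) [Field F] [Fintype F] {q : ℕ} (hq : IsPrimePow q) (hF : Fintype.card F = q ^ 3) :
    ∀ e ∈ [2, 3, 6, 12], Kill ↥(twistedD4 F q) q e e := by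
  obtain ⟨k, _, _, f, r, hpp, hkp, e', hk, hka, he0', hcF⟩ := H378.TorFin.exists_closure F
  obtain ⟨e, he0, hqe⟩ : ∃ e, 0 < e ∧ q = r ^ e := by
    obtain ⟨r', e, hr', he, rfl⟩ := hq
    have h1 : r' ∣ r ^ e' := by
      rw [← hcF, Nat.card_eq_fintype_card, hF]
      exact (dvd_pow_self r' he.ne').trans (dvd_pow_self _ three_ne_zero)
    have h2 : r' = r := (Nat.prime_dvd_prime_iff_eq hr'.nat_prime hpp.out).1 (hr'.nat_prime.dvd_of_dvd_pow h1)
    exact ⟨e, he, by rw [h2]⟩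
  have cs := coxeterD4.toCoxeterSystem
  have hW := finite_W RGDTwD4.hp cs
  have S := setup_twD4 cs hk f he0 hqe hq hF
  have hcard : 1 * Nat.card ↥(twistedD4 F q) = (r ^ e) ^ 12 * (fsD4 ((r ^ e : ℕ) : ℤ)).natAbs := by
    rw [S1067.result hq hF, ← hqe, one_mul, fsD4, Int.natAbs_mul, Int.natAbs_mul]
    have ev : ∀ i : ℕ, ((q : ℤ) ^ i - 1).natAbs = q ^ i - 1 := by
      intro i
      have h1 : 1 ≤ q ^ i := Nat.one_le_pow _ _ hq.pos
      have h2 : ((q : ℕ) : ℤ) ^ i - 1 = ((q ^ i - 1 : ℕ) : ℤ) := by push_cast [Nat.cast_sub h1]; ring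
      rw [h2, Int.natAbs_natCast]
    have e8 : ((q : ℤ) ^ 8 + (q : ℤ) ^ 4 + 1).natAbs = q ^ 8 + q ^ 4 + 1 := by
      have : (q : ℤ) ^ 8 + (q : ℤ) ^ 4 + 1 = ((q ^ 8 + q ^ 4 + 1 : ℕ) : ℤ) := by push_cast; ring
      rw [this, Int.natAbs_natCast]
    rw [ev, ev, e8]
    ring
  have hev : fsD4 (-((r ^ e : ℕ) : ℤ)) = fsD4 ((r ^ e : ℕ) : ℤ) := by unfold fsD4; ring
  have hcard' : 1 * Nat.card ↥(twistedD4 F q) = (r ^ e) ^ 12 * (fsD4 (-((r ^ e : ℕ) : ℤ))).natAbs := by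
    rw [hev]; exact hcard
  have hd : ∀ s : ℕ, s.Prime → ¬ s ∣ 1 := fun s hs h => hs.one_lt.ne' (Nat.dvd_one.1 h)
  -- the order
  have hnp : ∀ s : ℕ, s.Prime → ∀ n, 0 < n → ord q s = n → s ≠ r := by
    rintro s hs n hn h rfl
    have : Fact s.Prime := ⟨hs⟩
    have h1 : ((q : ℕ) : ZMod s) = 0 := by
      rw [ZMod.natCast_eq_zero_iff, hqe]
      exact dvd_pow_self _ he0.ne'
    have h2 : orderOf ((q : ℕ) : ZMod s) = 0 := by
      rw [h1, orderOf_eq_zero_iff']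
      intro m hm
      rw [zero_pow hm.ne']
      exact zero_ne_one
    rw [ord, h2] at h
    omega
  have pos : ∀ s t : ℕ, s.Prime → t.Prime → s ≠ t → t ∣ Nat.card ↥(twistedD4 F q) →
      (∃ T : Subgroup ↥(twistedD4 F q), IsMulCommutative T ∧ ∀ r ∈ ({s, t} : Set ℕ), ¬ r ∣ T.index) →
      ¬ Same s t ↥(twistedD4 F q) := by
    rintro s t hs ht hst htX ⟨T, hT, hi⟩ hS
    have h1 := hi s (Or.inl rfl)
    have h2 := hi t (Or.inr rfl)
    refine Same.core_abelian hs ht hst hS T hT h1 ?_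
    rw [← T.card_mul_index] at htX
    exact (ht.dvd_mul.1 htX).resolve_right h2
  intro n hn
  simp only [List.mem_cons, List.not_mem_nil, or_false] at hn
  have hc : ∀ s : ℕ, (((r ^ e : ℕ) : ℤ) : ZMod s) = (q : ZMod s) := fun s => by rw [hqe]; push_cast; rfl
  have hc' : ∀ s : ℕ, ((-((r ^ e : ℕ) : ℤ) : ℤ) : ZMod s) = -(q : ZMod s) := fun s => by rw [hqe]; push_cast; rfl
  rcases hn with rfl | rfl | rfl | rfl
  · intro s t hs ht hs2 ht2 hst hsX htX hsn htn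
    have hsp := hnp s hs 2 (by norm_num) hsn
    have htp := hnp t ht 2 (by norm_num) htn
    have key : ∀ s : ℕ, s.Prime → s ≠ 2 → ord q s = 2 → (s : ℤ) ∣ -((r ^ e : ℕ) : ℤ) - 1 := by
      intro s hs hs2 h
      have h3 := ord_neg_two hs hs2 (m := 1) odd_one h
      have h4 := (dvd_pow_sub_one_iff (r := s) (Q := -((r ^ e : ℕ) : ℤ)) 1).2 (by rw [hc', h3])
      rwa [pow_one] at h4
    have hQ : -((r ^ e : ℕ) : ℤ) = -1 * (r ^ e : ℕ) := by ring
    have hε : (-1 : ℤ) = 1 ∨ (-1 : ℤ) = -1 := Or.inr rfl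
    obtain ⟨T, hTor⟩ := exists_isTorR RGDTwD4.hp cs S (R := triE) (ε := -1) (by
      obtain ⟨w, hw⟩ := has_R cs 1 hε
      rw [RR1] at hw
      exact ⟨w, hw⟩)
    refine IsTor.not_same_regT RGDTwD4.hp cs hTor hs ht hst (hd s hs)
      (fun w hw => regT_one cs hs hsp hs2 hε hQ (key s hs hs2 hsn) hw) ?_
    refine IsTor.dvd_card_L RGDTwD4.hp cs hTor ht htp (hd t ht) hε hQ (coordF 4 1) (fun x => ?_)
      (x0 := Pi.single 1 1) ?_
    · have h5 : coordF 4 1 (triE x) = coordF 4 1 x := rfl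
      rw [h5]
      have h6 := key t ht ht2 htn
      have h7 : coordF 4 1 x - -((r ^ e : ℕ) : ℤ) * coordF 4 1 x =
        (-((r ^ e : ℕ) : ℤ) - 1) * (- coordF 4 1 x) := by ring
      rw [h7]
      exact h6.mul_right _
    · intro h
      have h5 : coordF 4 1 (Pi.single 1 1) = 1 := rfl
      rw [h5] at h
      exact hd t ht (by exact_mod_cast h)
  · intro s t hs ht hs2 ht2 hst hsX htX hsn htn
    have hsp := hnp s hs 3 (by norm_num) hsn
    have htp := hnp t ht 3 (by norm_num) htn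
    refine pos s t hs ht hst htX (D4_pos3 cs S (Or.inl rfl) (Q := ((r ^ e : ℕ) : ℤ)) (one_mul _).symm hcard ?_)
    rintro x (rfl | rfl)
    · exact ⟨hs, hs2, hsp, by rw [hc]; exact hsn⟩
    · exact ⟨ht, ht2, htp, by rw [hc]; exact htn⟩
  · intro s t hs ht hs2 ht2 hst hsX htX hsn htn
    have hsp := hnp s hs 6 (by norm_num) hsn
    have htp := hnp t ht 6 (by norm_num) htn
    refine pos s t hs ht hst htX (D4_pos3 cs S (Or.inr rfl) (Q := -((r ^ e : ℕ) : ℤ)) (by ring) hcard' ?_)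
    rintro x (rfl | rfl)
    · exact ⟨hs, hs2, hsp, by rw [hc']; exact ord_neg_two hs hs2 (m := 3) (by decide) hsn⟩
    · exact ⟨ht, ht2, htp, by rw [hc']; exact ord_neg_two ht ht2 (m := 3) (by decide) htn⟩
  · intro s t hs ht hs2 ht2 hst hsX htX hsn htn
    have hsp := hnp s hs 12 (by norm_num) hsn
    have htp := hnp t ht 12 (by norm_num) htn
    refine pos s t hs ht hst htX (D4_pos12 cs S (Or.inl rfl) (Q := ((r ^ e : ℕ) : ℤ)) (one_mul _).symm hcard ?_)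
    rintro x (rfl | rfl)
    · exact ⟨hs, hs2, hsp, by rw [hc]; exact hsn⟩
    · exact ⟨ht, ht2, htp, by rw [hc]; exact htn⟩

end Cfsg.Agent.H755.PQ
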