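import Cfsg.Agent.H755.PQ.TorTw
import Cfsg.Agent.H755.PQ.TorD

/-!
# S4612: tori, the prime 2 (helper755)

* `IsTor.not_same_comm` : `r` odd, `r ∣ Q - 1` (also `r ∣ d`), `s` arbitrary, `s ∣ |T|`: not `Same r s`;
* `IsTor.two_dvd`, `IsTor.two_dvd_comm` : involutions of the torus of `ε`;
* `killTwo_G2`, `killTwo_F4`, `killTwo_E8`, `killTwo_E7`, `killTwo_2E6`, `killTwo_3D4` : `KillTwo G q 2`, `q ≡ 3 mod 4`
  (`q` odd except for `E₇`).
-/

set_option autoImplicit false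
set_option linter.unusedSectionVars false
set_option linter.unusedVariables false

namespace Cfsg.Agent.H755.PQ

open CoxeterSystem Cfsg Cfsg.Lie Cfsg.Lie.ChevalleyDatum
open Cfsg.Agent.ChevalleyStructure Cfsg.Agent.ChevalleyStructure.Elts Cfsg.Agent.ChevalleyStructure.CoxeterGeom
  Cfsg.Agent.ChevalleyStructure.CoxeterGeomTypes Cfsg.Agent.ChevalleyStructure.NPerm
open Cfsg.Agent.Tits.Roots Cfsg.Agent.Tits.Core Cfsg.Agent.Nodes Cfsg.Agent.Nodes.Reps Cfsg.Agent.Nodes.BNOf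
  Cfsg.Agent.Nodes.RGDChev Cfsg.Agent.Nodes.Bruhat Cfsg.Agent.Nodes.SubComb Cfsg.Agent.Nodes.Coroot
open Cfsg.Agent.KFacts.RgdField Cfsg.Agent.KFacts.RgdChevCoord Cfsg.Agent.BpExc.TorCent Cfsg.Agent.BpExc.TorChev
open Cfsg.Agent.GpExc.Field Cfsg.Agent.BpExc.Tow Cfsg.Agent.BpExc.TowChev Cfsg.Agent.BpExc.Fr
  Cfsg.Agent.BpExc.LangFr Cfsg.Agent.LangThm Cfsg.Agent.BpExc Cfsg.Agent.H129.TorusChar Cfsg.Agent.H129.TorusMain
open Cfsg.Agent.H129.TorAct (cX_tau tau_mem exists_theta)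
open Cfsg.Agent.H129.TorusUntw (phi phi_emb coe_phi isFrob_phi fr_phi)
open Cfsg.Agent.H630.NH Cfsg.Agent.H630.Exc Cfsg.Agent.H317.PQ Cfsg.Agent.H990.PQ
open Cfsg.Agent.H130.WeylCk Cfsg.Agent.H130.PolyL Cfsg.Agent.H130.WeylTab

universe u v

section Gen

variable {D : ChevalleyDatum} {l : ℕ} {M : CoxeterMatrix (Fin l)} (hp : IsType D l M)
  {W : Type*} [Group W] (cs : CoxeterSystem M W)

variable {k : Type u} [Field k] {p e : ℕ} [hpF : Fact p.Prime] [CharP k p] {σ : MulAut ↥(D.group k)}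
  {g : (Fin l → ℤ) ≃+ (Fin l → ℤ)}
  {X : Type v} [Group X] {e0 : X →* ↥(D.group k)} {d : ℕ} {S : Setup hp cs p e σ g e0 d}
  {ε : ℤ} {R : Module.End ℤ (Fin l → ℤ)} {T : Subgroup X} (h : IsTor hp cs S ε R T)

/-- **Primes dividing `Q - 1`**, also those dividing the index `d`. -/
theorem IsTor.not_same_comm (h : IsTor hp cs S ε R T) [IsAlgClosed k] [Finite W] [Finite X] (hcm : CommIn σ e0)
    (hε : ε = 1 ∨ ε = -1) {r s : ℕ} (hrp : r.Prime) (hsp : s.Prime) (hrs : r ≠ s) (hrc : r ≠ p) (hr2 : r ≠ 2) {Q : ℤ}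
    (hQ : Q = ε * (p ^ e : ℕ)) (hrQ : (r : ℤ) ∣ Q - 1) (hR : R = 1) (hs : s ∣ Nat.card T) : ¬ Same r s X := by
  have : Fact r.Prime := ⟨hrp⟩
  have hrZ := Nat.prime_iff_prime_int.1 hrp
  obtain ⟨w, n', z, hw, hn', hz, rfl⟩ := h
  subst hR
  have hQr := not_dvd_Q (p := p) (e := e) Fact.out hrp hrc hε hQ
  have hθ : ∀ x, (theta hp cs w g)^[2 * 1] x = x := theta_powR hp cs hε hw (one_pow 1)
  have hq : (r : ℤ) ∣ ((p ^ e : ℕ) : ℤ) ^ (2 * 1) - 1 := by
    have h1 : ((p ^ e : ℕ) : ℤ) ^ (2 * 1) = Q ^ (2 * 1) := by rw [hQ, mul_pow, eps_pow_two hε, one_mul]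
    rw [h1]
    exact hrQ.trans ⟨Q + 1, by ring⟩
  have hroot : ∀ a, IsRoot cs hp.isCartan a →
      ∃ L : (Fin l → ℤ) →+ ℤ, ¬ (r : ℤ) ∣ Lq L (theta hp cs w g) (p ^ e) (2 * 1) a := by
    intro a ha
    obtain ⟨i, hi⟩ := exists_coord hp cs ha hrp
    refine ⟨coordF l i, fun h => hi ?_⟩
    rw [Lq_eqR hp cs hε hw (one_pow 1) _ hQ, Finset.sum_range_one, pow_zero, Module.End.one_apply, Nat.sub_zero,
      pow_one] at h
    rcases hrZ.dvd_mul.1 h with h2 | h2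
    · exfalso
      have h3 : (r : ℤ) ∣ 2 := by
        have h4 := dvd_sub h2 hrQ
        have h5 : Q + 1 - (Q - 1) = 2 := by ring
        rwa [h5] at h4
      have h4 : r ∣ 2 := by exact_mod_cast h3
      exact hr2 ((Nat.prime_dvd_prime_iff_eq hrp Nat.prime_two).1 h4)
    · exact (hrZ.dvd_mul.1 h2).resolve_left hQr
  have hcw : ∀ (v : W) (x), rep cs hp.isCartan v (theta hp cs w g x) = theta hp cs w g (rep cs hp.isCartan v x) := by
    intro v x
    rw [hw, hw, map_zsmul, Module.End.one_apply, Module.End.one_apply]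
  have hNs := S.nsys hp cs
  refine not_same_of_comm hrp hsp hrs (tXr hp S.inj z r) ?_ (tX D k e0 z) (fun a ha b hb => tX_comm hp S.inj z ha hb)
    ?_ ?_ hs
  · rintro ⟨x, hx⟩
    exact ⟨1, Subtype.ext (by rw [pow_one]; exact hx.2)⟩
  · intro y hy
    rw [Subgroup.mem_centralizer_iff]
    intro x hx
    exact tX_comm hp S.inj z hx.1 hy
  · intro y hyc hyo
    rw [Subgroup.mem_centralizer_iff] at hyc
    set A : Set ↥(D.group k) := (fun x => z⁻¹ * e0 x * z) '' (tXr hp S.inj z r : Set X)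
    have hAf : A.Finite := (Set.toFinite _).image _
    have hAT : ∀ t ∈ A, t ∈ TT D k := by
      rintro t ⟨x, hx, rfl⟩
      exact hx.1
    have hcomm : ∀ t ∈ A, (z⁻¹ * e0 y * z) * t = t * (z⁻¹ * e0 y * z) := by
      rintro t ⟨x, hx, rfl⟩
      have h2 : y * x = x * y := (hyc x hx).symm
      show z⁻¹ * e0 y * z * (z⁻¹ * e0 x * z) = z⁻¹ * e0 x * z * (z⁻¹ * e0 y * z)
      calc z⁻¹ * e0 y * z * (z⁻¹ * e0 x * z) = z⁻¹ * (e0 (y * x)) * z := by rw [map_mul]; group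
        _ = z⁻¹ * (e0 (x * y)) * z := by rw [h2]
        _ = _ := by rw [map_mul]; group
    have hcs : (z⁻¹ * e0 y * z) ^ orderOf y = 1 := by
      rw [S.conj_pow_eq hp cs, pow_orderOf_eq_one, map_one]
      group
    have hAr : ∀ t ∈ A, t ^ r = 1 := by
      rintro t ⟨x, hx, rfl⟩
      show (z⁻¹ * e0 x * z) ^ r = 1
      rw [S.conj_pow_eq hp cs, hx.2, map_one]
      group
    exact mem_TT_of_pow hp cs S.lf p hNs hAf hAT (fun a ha => by
      obtain ⟨x, hx, hx1⟩ := S.root_comm hp cs hcm hrp hrc hr2 hn' hz (by norm_num) hθ hq hroot hcw ha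
      exact ⟨_, ⟨x, hx, rfl⟩, hx1⟩) (r := r) hAr (orderOf_pos y)
      ((Nat.Prime.coprime_iff_not_dvd hrp).2 hyo).symm hcomm hcs

/-- an involution of the torus of `ε` -/
theorem IsTor.two_dvd (h : IsTor hp cs S ε R T) [IsAlgClosed k] [Finite W] [Finite X] (hε : ε = 1 ∨ ε = -1)
    {Q : ℤ} (hQ : Q = ε * (p ^ e : ℕ)) (h2p : 2 ≠ p) (h2d : ¬ 2 ∣ d) (hR : R = 1) (hl : 0 < l) :
    2 ∣ Nat.card T := by
  refine IsTor.dvd_card_L hp cs h Nat.prime_two h2p h2d hε hQ (coordF l ⟨0, hl⟩) (fun x => ?_)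
    (x0 := Pi.single ⟨0, hl⟩ 1) ?_
  · have hodd : (2 : ℤ) ∣ Q - 1 := by
      have h1 : ¬ ((2 : ℕ) : ℤ) ∣ Q := not_dvd_Q (p := p) (e := e) Fact.out Nat.prime_two h2p hε hQ
      push_cast at h1
      omega
    rw [hR, Module.End.one_apply]
    have h7 : coordF l ⟨0, hl⟩ x - Q * coordF l ⟨0, hl⟩ x = (Q - 1) * (- coordF l ⟨0, hl⟩ x) := by ring
    rw [h7]
    exact hodd.mul_right _
  · have h5 : coordF l ⟨0, hl⟩ (Pi.single ⟨0, hl⟩ 1) = 1 := by
      show (Pi.single (⟨0, hl⟩ : Fin l) (1 : ℤ) : Fin l → ℤ) ⟨0, hl⟩ = 1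
      exact Pi.single_eq_same _ _
    rw [h5]
    norm_num

/-- an element of even order of the torus of `ε`, `4 ∣ Q - 1` -/
theorem IsTor.two_dvd_comm (h : IsTor hp cs S ε R T) [IsAlgClosed k] [Finite W] [Finite X] (hcm : CommIn σ e0)
    (hε : ε = 1 ∨ ε = -1) {Q : ℤ} (hQ : Q = ε * (p ^ e : ℕ)) (h4 : (4 : ℤ) ∣ Q - 1) (h2p : 2 ≠ p)
    (hR : R = 1) (hl : 0 < l) : 2 ∣ Nat.card T := by
  have : Fact (Nat.Prime 2) := ⟨Nat.prime_two⟩
  obtain ⟨w, n', z, hw, hn', hz, rfl⟩ := h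
  subst hR
  have h4k : ((4 : ℕ) : k) ≠ 0 := by
    rw [Ne, CharP.cast_eq_zero_iff k p]
    intro h
    have hpp : p.Prime := Fact.out
    exact h2p ((Nat.prime_dvd_prime_iff_eq hpp Nat.prime_two).1 (hpp.dvd_of_dvd_pow (show p ∣ 2 ^ 2 from h))).symm
  have hθ : ∀ x, (theta hp cs w g)^[2 * 1] x = x := theta_powR hp cs hε hw (one_pow 1)
  have hcw : ∀ (v : W) (x), rep cs hp.isCartan v (theta hp cs w g x) = theta hp cs w g (rep cs hp.isCartan v x) := by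
    intro v x
    rw [hw, hw, map_zsmul, Module.End.one_apply, Module.End.one_apply]
  obtain ⟨B, d', hd', hB⟩ := S.inv
  obtain ⟨t, ht, h1, h2, h3⟩ := exists_torsionL hp hB hd' (θ := theta hp cs w g) (q := p ^ e) (r := 4) h4k
    (coordF l ⟨0, hl⟩) (fun x => by
      have h4' : coordF l ⟨0, hl⟩ (theta hp cs w g x) - ((p ^ e : ℕ) : ℤ) * coordF l ⟨0, hl⟩ x =
          (Q - 1) * (- (ε * coordF l ⟨0, hl⟩ x)) := by
        rw [hw, map_zsmul, Module.End.one_apply, smul_eq_mul, hQ]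
        rcases hε with rfl | rfl <;> ring
      rw [h4']
      exact h4.mul_right _)
  have ha : IsRoot cs hp.isCartan (sr (⟨0, hl⟩ : Fin l)) := isRoot_sr cs hp.isCartan ⟨0, hl⟩
  have hFt := (tau_iff hp cs S.lf S.frob S.fr hn' ht).2 h1
  obtain ⟨s, hs⟩ := exists_refl hp cs ha
  obtain ⟨y, hy, hFy⟩ := S.exists_norm hp cs (by norm_num) hθ hn' (hcw s)
  obtain ⟨x, hx⟩ := hcm.exists_of hz hFy hFt
  have hyt : y * t * y⁻¹ ∈ TT D k := (Subgroup.mem_normalizer_iff.1 hy.mem_normalizer t).1 ht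
  have hmem : z⁻¹ * e0 x * z ∈ TT D k := by rw [hx]; exact mul_mem hyt (inv_mem ht)
  have hmc := isMC_cX hp ht
  have hxT : x ∈ tX D k e0 z := by rw [mem_tX]; exact hmem
  have hx4 : x ^ 2 ^ 2 = 1 := by
    apply S.inj
    rw [map_pow, map_one]
    have h4' : e0 x = z * (y * t * y⁻¹ * t⁻¹) * z⁻¹ := by rw [← hx]; group
    have h5 : (y * t * y⁻¹ * t⁻¹) ^ 4 = 1 := by
      rw [(show Commute (y * t * y⁻¹) t⁻¹ from TT_comm hp _ hyt _ (inv_mem ht)).mul_pow, conj_pow, h2, inv_pow, h2]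
      group
    rw [h4', conj_pow, show 2 ^ 2 = 4 from rfl, h5]
    group
  have hne : x ≠ 1 := by
    rintro rfl
    have h5 : cX hp (z⁻¹ * e0 1 * z) (sr (⟨0, hl⟩ : Fin l)) = 1 := by
      rw [map_one, mul_one, inv_mul_cancel, cX_one]
    rw [hx, cX_mul hp hyt (inv_mem ht)] at h5
    have h6 : cX hp (y * t * y⁻¹) (sr (⟨0, hl⟩ : Fin l)) = cX hp t (-(sr (⟨0, hl⟩ : Fin l))) := by
      have h7 := cX_rp hp cs S.lf p hy ht (-(sr (⟨0, hl⟩ : Fin l)))
      rwa [map_neg, hs, neg_neg] at h7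
    have h7 : cX hp t⁻¹ (sr (⟨0, hl⟩ : Fin l)) = (cX hp t (sr (⟨0, hl⟩ : Fin l)))⁻¹ := by
      have h8 := cX_mul hp ht (inv_mem ht) (sr (⟨0, hl⟩ : Fin l))
      rw [mul_inv_cancel, cX_one] at h8
      exact eq_inv_of_mul_eq_one_right h8.symm
    rw [h6, hmc.neg, h7] at h5
    have h8 : cX hp t (sr (⟨0, hl⟩ : Fin l)) ^ 2 = 1 := by
      have h9 := congrArg Inv.inv h5
      rw [mul_inv, inv_inv, inv_one] at h9
      rw [sq]; exact h9
    have h9 : cX hp t ((2 : ℤ) • (sr (⟨0, hl⟩ : Fin l))) = 1 := by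
      rw [hmc.zsmul, zpow_ofNat]
      exact h8
    rw [h3] at h9
    have h10 : coordF l ⟨0, hl⟩ ((2 : ℤ) • (sr (⟨0, hl⟩ : Fin l))) = 2 := by
      show (2 : ℤ) • (Pi.single (⟨0, hl⟩ : Fin l) (1 : ℤ) : Fin l → ℤ) ⟨0, hl⟩ = 2
      rw [Pi.single_eq_same]
      rfl
    rw [h10] at h9
    norm_num at h9
  have h5 : 2 ∣ orderOf x := by
    obtain ⟨j, hj, hjo⟩ := (Nat.dvd_prime_pow Nat.prime_two).1 (orderOf_dvd_of_pow_eq_one hx4)
    rcases Nat.eq_zero_or_pos j with rfl | hj0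
    · rw [pow_zero, orderOf_eq_one_iff] at hjo
      exact absurd hjo hne
    · rw [hjo]
      exact dvd_pow_self 2 hj0.ne'
  have h6 : orderOf (⟨x, hxT⟩ : tX D k e0 z) = orderOf x := by rw [← Subgroup.orderOf_coe]
  exact h5.trans (h6 ▸ orderOf_dvd_natCard _)

/-- the passage to `KillTwo` -/
theorem killTwo_of {p e : ℕ} (hp : p.Prime) (he : 0 < e) {X : Type v} [Group X] {q : ℕ} (hq : q = p ^ e)
    (H : ∀ r : ℕ, r.Prime → r ≠ 2 → r ≠ p → (r : ℤ) ∣ -((p ^ e : ℕ) : ℤ) - 1 → ¬ Same r 2 X) : KillTwo X q 2 := by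
  intro r hr hr2 hrX hrn hS
  have hrp : r ≠ p := by
    rintro rfl
    have : Fact r.Prime := ⟨hr⟩
    have h1 : ((q : ℕ) : ZMod r) = 0 := by
      rw [ZMod.natCast_eq_zero_iff, hq]
      exact dvd_pow_self _ he.ne'
    have h2 : orderOf ((q : ℕ) : ZMod r) = 0 := by
      rw [h1, orderOf_eq_zero_iff']
      intro m hm
      rw [zero_pow hm.ne']
      exact zero_ne_one
    rw [ord, h2] at hrn
    omega
  refine H r hr hr2 hrp ?_ hS.symm
  have h3 := ord_neg_two hr hr2 (m := 1) odd_one hrn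
  have h4 := (dvd_pow_sub_one_iff (r := r) (Q := -((p ^ e : ℕ) : ℤ)) 1).2 (by
    rw [← hq, Int.cast_neg, Int.cast_natCast, h3])
  rwa [pow_one] at h4

variable (S)

include S

/-- `KillTwo` for `-1` in the Weyl group, `2 ∤ d` -/
theorem killTwo_gen [IsAlgClosed k] [Finite W] [Finite X] (hcm : CommIn σ e0) (hT : HasTor hp cs g (-1) (1 : W))
    (hl : 0 < l) (h2p : 2 ≠ p) (h2 : ¬ 2 ∣ d ∨ p ^ e % 4 = 3) {q : ℕ} (hq : q = p ^ e) : KillTwo X q 2 := by
  have hε : (-1 : ℤ) = 1 ∨ (-1 : ℤ) = -1 := Or.inr rfl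
  have hQ : -((p ^ e : ℕ) : ℤ) = -1 * (p ^ e : ℕ) := by ring
  obtain ⟨T, hTor⟩ := exists_isTor hp cs S hT
  have h2T : 2 ∣ Nat.card T := by
    rcases h2 with h2 | h2
    · exact IsTor.two_dvd hp cs hTor hε hQ h2p h2 (map_one _) hl
    · exact IsTor.two_dvd_comm hp cs hTor hcm hε hQ (by omega) h2p (map_one _) hl
  exact killTwo_of hpF.out S.pos hq fun r hr hr2 hrp hrQ =>
    IsTor.not_same_comm hp cs hTor hcm hε hr Nat.prime_two hr2 hrp hr2 hQ hrQ (map_one _) h2T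

end Gen

theorem commIn_of_surj {Y : Type u} [Group Y] {X : Type v} [Group X] {σ : MulAut Y} {e0 : X →* Y}
    (h : ∀ y, σ y = y → y ∈ e0.range) : CommIn σ e0 := by
  intro a b ha hb
  exact mul_mem (mul_mem (mul_mem (h a ha) (h b hb)) (inv_mem (h a ha))) (inv_mem (h b hb))

theorem two_ne_of_odd {p e q : ℕ} (he : 0 < e) (hq : q = p ^ e) (h : q % 2 = 1) : 2 ≠ p := by
  rintro rfl
  have : 2 ∣ q := by rw [hq]; exact dvd_pow_self 2 he.ne'
  omega

/-- commutators of fixed points, untwisted groups -/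
theorem commIn_untw {D : ChevalleyDatum} {l : ℕ} {M : CoxeterMatrix (Fin l)} (hp : IsType D l M)
    {W : Type*} [Group W] (cs : CoxeterSystem M W) {k : Type u} [Field k] [IsAlgClosed k] {p n : ℕ} [Fact p.Prime]
    [CharP k p] {F : Type u} [Field F] [Fintype F] (f : F →+* k) (hn : Fintype.card F = p ^ n) {d : ℕ}
    (S : Setup hp cs p n (phi D k p n) (AddEquiv.refl (Fin l → ℤ)) (emb hp.inList f) d) :
    CommIn (phi D k p n) (emb hp.inList f) := by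
  refine commIn_of (TT D k) (TT_comm hp) S.fix (fun y hy => ?_) (fun y hy a ha => ?_)
  · obtain ⟨x, t, ht, e1⟩ := H129.TorusUntw.fix_split hp f hn hy
    exact ⟨x, t, ht, e1⟩
  · exact H378.TorFin.conj_range hp f p (by rw [Nat.card_eq_fintype_card, hn]) (by rw [phi_eq_phi, hy]) ha

/-- `KillTwo` for the untwisted groups -/
theorem killTwo_untw {D : ChevalleyDatum} {l : ℕ} {M : CoxeterMatrix (Fin l)} (hp : IsType D l M)
    (hT : ∀ {W : Type} [Group W] (cs : CoxeterSystem M W), HasTor hp cs (AddEquiv.refl (Fin l → ℤ)) (-1) (1 : W))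
    (hl : 0 < l) {d0 : ℕ} {B : Fin l → Fin l → ℤ} (hB : InvC D l d0 B) (hd0 : d0 ≠ 0)
    (F : Type u) [Field F] [Fintype F] (h : (¬ 2 ∣ d0 ∧ Fintype.card F % 2 = 1) ∨ Fintype.card F % 4 = 3) :
    KillTwo ↥(D.group F) (Fintype.card F) 2 := by
  obtain ⟨k, _, _, f, p, hpp, hkp, e, hk, hka, he0, hcF⟩ := H378.TorFin.exists_closure F
  have cs := M.toCoxeterSystem
  have hW := finite_W hp cs
  have hcF' : Fintype.card F = p ^ e := by rw [← Nat.card_eq_fintype_card, hcF]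
  have S := setup_untw hp cs hk f he0 hcF' hB hd0
  have h2p : 2 ≠ p := two_ne_of_odd he0 hcF' (by omega)
  refine killTwo_gen hp cs S (commIn_untw hp cs f hcF' S) (hT cs) hl h2p ?_ hcF'
  rcases h with ⟨h1, h2⟩ | h1
  · exact Or.inl fun h => h1 (h.trans (Nat.gcd_dvd_left _ _))
  · exact Or.inr (by rw [← hcF']; exact h1)

theorem killTwo_F4 (F : Type u) [Field F] [Fintype F] (h : Fintype.card F % 2 = 1) :
    KillTwo ↥(chevF4.group F) (Fintype.card F) 2 :=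
  killTwo_untw f4T (fun cs => hasTor_F4 cs (-1) (Or.inr rfl) 1) (by norm_num) invC_F4 one_ne_zero F
    (Or.inl ⟨by norm_num, h⟩)

theorem killTwo_G2 (F : Type u) [Field F] [Fintype F] (h : Fintype.card F % 2 = 1) :
    KillTwo ↥(chevG2.group F) (Fintype.card F) 2 :=
  killTwo_untw g2T (fun cs => hasTor_G2 cs (-1) (Or.inr rfl) 1) (by norm_num) invC_G2 one_ne_zero F
    (Or.inl ⟨by norm_num, h⟩)

theorem killTwo_E8 (F : Type u) [Field F] [Fintype F] (h : Fintype.card F % 2 = 1) :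
    KillTwo ↥(chevE8.group F) (Fintype.card F) 2 :=
  killTwo_untw e8T (fun cs => hasTor_E8 cs (-1) (Or.inr rfl) 1) (by norm_num) invC_E8 one_ne_zero F
    (Or.inl ⟨by norm_num, h⟩)

theorem killTwo_E7 (F : Type u) [Field F] [Fintype F] (h : Fintype.card F % 4 = 3) :
    KillTwo ↥(chevE7.group F) (Fintype.card F) 2 :=
  killTwo_untw e7T (fun cs => hasTor_E7 cs (-1) (Or.inr rfl) 1) (by norm_num) invC_E7 two_ne_zero F (Or.inr h)

open Cfsg.Agent.H129.TwE6Fr (tau isFrob_tau fr_tau embT embT_injective tau_embT tau_split tau_normal tau_pow flip6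
  flip6_apply flip_sr') in
theorem killTwo_2E6 (F : Type u) [Field F] [Fintype F] {q : ℕ} (hq : IsPrimePow q) (hF : Fintype.card F = q ^ 2)
    (h : q % 2 = 1) : KillTwo ↥(twistedE6 F q) q 2 := by
  obtain ⟨k, _, _, f, r, hpp, hkp, e', hk, hka, he0', hcF⟩ := H378.TorFin.exists_closure F
  obtain ⟨e, he0, hqe⟩ : ∃ e, 0 < e ∧ q = r ^ e := by
    obtain ⟨r', e, hr', he, rfl⟩ := hq
    have h1 : r' ∣ r ^ e' := by
      rw [← hcF, Nat.card_eq_fintype_card, hF]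
      exact (dvd_pow_self r' he.ne').trans (dvd_pow_self _ two_ne_zero)
    have h2 : r' = r := (Nat.prime_dvd_prime_iff_eq hr'.nat_prime hpp.out).1 (hr'.nat_prime.dvd_of_dvd_pow h1)
    exact ⟨e, he, by rw [h2]⟩
  have cs := CoxeterMatrix.E₆.toCoxeterSystem
  have hW := finite_W e6T cs
  have S := setup_twE6 cs hk f he0 hqe hq hF
  have hcm : CommIn (tau k r e) (embT f hq hF) := by
    refine commIn_of (TT chevE6 k) (TT_comm e6T) S.fix (fun y hy => ?_) (fun y hy a ha => ?_)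
    · obtain ⟨x, t, ht, -, e1⟩ := tau_split f hqe hq hF hy
      exact ⟨x, t, ht, e1⟩
    · exact tau_normal f hqe hq hF hy ha
  refine killTwo_gen e6T cs S hcm (hasTor_tw cs 1) (by norm_num) (two_ne_of_odd he0 hqe h) (Or.inl fun h => ?_) hqe
  have := (Nat.prime_dvd_prime_iff_eq Nat.prime_two Nat.prime_three).1 (h.trans (Nat.gcd_dvd_left _ _))
  omega

open Cfsg.Agent.H129.TriD4 (tau isFrob_tau fr_tau embT embT_injective tau_embT tau_range tri tri_apply tri_sr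
  tri_three) in
theorem killTwo_3D4 (F : Type u) [Field F] [Fintype F] {q : ℕ} (hq : IsPrimePow q) (hF : Fintype.card F = q ^ 3)
    (h : q % 2 = 1) : KillTwo ↥(twistedD4 F q) q 2 := by
  obtain ⟨k, _, _, f, r, hpp, hkp, e', hk, hka, he0', hcF⟩ := H378.TorFin.exists_closure F
  obtain ⟨e, he0, hqe⟩ : ∃ e, 0 < e ∧ q = r ^ e := by
    obtain ⟨r', e, hr', he, rfl⟩ := hq
    have h1 : r' ∣ r ^ e' := by
      rw [← hcF, Nat.card_eq_fintype_card, hF]
      exact (dvd_pow_self r' he.ne').trans (dvd_pow_self _ three_ne_zero)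
    have h2 : r' = r := (Nat.prime_dvd_prime_iff_eq hr'.nat_prime hpp.out).1 (hr'.nat_prime.dvd_of_dvd_pow h1)
    exact ⟨e, he, by rw [h2]⟩
  have cs := coxeterD4.toCoxeterSystem
  have hW := finite_W RGDTwD4.hp cs
  have S := setup_twD4 cs hk f he0 hqe hq hF
  have h2p := two_ne_of_odd he0 hqe h
  have hQ : -((r ^ e : ℕ) : ℤ) = -1 * (r ^ e : ℕ) := by ring
  have hε : (-1 : ℤ) = 1 ∨ (-1 : ℤ) = -1 := Or.inr rfl
  obtain ⟨T, hTor⟩ := exists_isTorR RGDTwD4.hp cs S (R := triE) (ε := -1) (by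
    obtain ⟨w, hw⟩ := has_R cs 1 hε
    rw [RR1] at hw
    exact ⟨w, hw⟩)
  have h2T : 2 ∣ Nat.card T := by
    refine IsTor.dvd_card_L RGDTwD4.hp cs hTor Nat.prime_two h2p (by norm_num) hε hQ (coordF 4 1) (fun x => ?_)
      (x0 := Pi.single 1 1) ?_
    · have h5 : coordF 4 1 (triE x) = coordF 4 1 x := rfl
      rw [h5]
      have h6 : ((2 : ℕ) : ℤ) ∣ -((r ^ e : ℕ) : ℤ) - 1 := by
        rw [← hqe]
        push_cast
        omega
      have h7 : coordF 4 1 x - -((r ^ e : ℕ) : ℤ) * coordF 4 1 x =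
        (-((r ^ e : ℕ) : ℤ) - 1) * (- coordF 4 1 x) := by ring
      rw [h7]
      exact h6.mul_right _
    · have h5 : coordF 4 1 (Pi.single 1 1) = 1 := rfl
      rw [h5]
      norm_num
  exact killTwo_of hpp.out he0 hqe fun s hs hs2 hsp hsQ =>
    IsTor.not_same_regT RGDTwD4.hp cs hTor hs Nat.prime_two hs2 (fun h => hs.one_lt.ne' (Nat.dvd_one.1 h))
      (fun w hw => regT_one cs hs hsp hs2 hε hQ hsQ hw) h2T

end Cfsg.Agent.H755.PQ
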