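import Cfsg.Agent.H755.PQ.TorRows

/-!
# S4612: tori (`Kill e e`) in `²E₆(q)` (helper755)
-/

set_option autoImplicit false
set_option linter.unusedSectionVars false
set_option linter.unusedVariables false

namespace Cfsg.Agent.H755.PQ

open CoxeterSystem Cfsg Cfsg.Lie Cfsg.Lie.ChevalleyDatum
open Cfsg.Agent.ChevalleyStructure Cfsg.Agent.ChevalleyStructure.Elts Cfsg.Agent.ChevalleyStructure.CoxeterGeom
  Cfsg.Agent.ChevalleyStructure.CoxeterGeomTypes Cfsg.Agent.ChevalleyStructure.NPerm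
open Cfsg.Agent.Tits.Roots Cfsg.Agent.Tits.Core Cfsg.Agent.Nodes Cfsg.Agent.Nodes.Reps Cfsg.Agent.Nodes.BNOf
  Cfsg.Agent.Nodes.RGDChev Cfsg.Agent.Nodes.Bruhat Cfsg.Agent.Nodes.SubComb Cfsg.Agent.Nodes.Coroot
open Cfsg.Agent.KFacts.RgdField Cfsg.Agent.KFacts.RgdChevCoord Cfsg.Agent.BpExc.TorCent Cfsg.Agent.BpExc.TorChev
open Cfsg.Agent.GpExc.Field Cfsg.Agent.BpExc.Tow Cfsg.Agent.BpExc.TowChev Cfsg.Agent.BpExc.Fr
  Cfsg.Agent.BpExc.LangFr Cfsg.Agent.LangThm Cfsg.Agent.BpExc Cfsg.Agent.H129.TorusChar Cfsg.Agent.H129.TorusMain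
open Cfsg.Agent.H129.TwE6Fr (tau isFrob_tau fr_tau embT embT_injective tau_embT tau_split tau_normal tau_pow flip6
  flip6_apply flip_sr')
open Cfsg.Agent.H630.NH Cfsg.Agent.H630.Exc Cfsg.Agent.H317.PQ Cfsg.Agent.H990.PQ
open Cfsg.Agent.H130.WeylCk Cfsg.Agent.H130.PolyL Cfsg.Agent.H130.WeylTab

universe u v

/-- the order of `-q` -/
theorem ord_neg_tw (q : ℕ) : ∀ e ∈ [3, 4, 6, 8, 10, 12, 18], ∃ n ∈ [3, 4, 5, 6, 8, 9, 12],
    ∀ r : ℕ, r.Prime → r ≠ 2 → orderOf (q : ZMod r) = e → orderOf ((-(q : ℤ) : ℤ) : ZMod r) = n := by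
  have cast : ∀ r : ℕ, ((-(q : ℤ) : ℤ) : ZMod r) = -(q : ZMod r) := fun r => by push_cast; rfl
  have four : ∀ e : ℕ, 4 ∣ e → ∀ r : ℕ, r.Prime → r ≠ 2 → orderOf (q : ZMod r) = e →
      orderOf ((-(q : ℤ) : ℤ) : ZMod r) = e := by
    rintro e h r hr hr2 rfl
    rw [cast, ord_neg_four hr hr2 h]
  have two : ∀ m : ℕ, Odd m → ∀ r : ℕ, r.Prime → r ≠ 2 → orderOf (q : ZMod r) = 2 * m →
      orderOf ((-(q : ℤ) : ℤ) : ZMod r) = m := by
    intro m h r hr hr2 h1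
    rw [cast, ord_neg_two hr hr2 h h1]
  have odd : ∀ e : ℕ, Odd e → ∀ r : ℕ, r.Prime → r ≠ 2 → orderOf (q : ZMod r) = e →
      orderOf ((-(q : ℤ) : ℤ) : ZMod r) = 2 * e := by
    rintro e h r hr hr2 rfl
    rw [cast, ord_neg_odd hr hr2 h]
  intro e he
  simp only [List.mem_cons, List.not_mem_nil, or_false] at he
  rcases he with rfl | rfl | rfl | rfl | rfl | rfl | rfl
  · exact ⟨6, by decide, odd 3 (by decide)⟩
  · exact ⟨4, by decide, four 4 (by decide)⟩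
  · exact ⟨3, by decide, two 3 (by decide)⟩
  · exact ⟨8, by decide, four 8 (by decide)⟩
  · exact ⟨5, by decide, two 5 (by decide)⟩
  · exact ⟨12, by decide, four 12 (by decide)⟩
  · exact ⟨9, by decide, two 9 (by decide)⟩

/-- **Type `²E₆`.** -/
theorem tor_2E6 (F : Type u) [Field F] [Fintype F] {q : ℕ} (hq : IsPrimePow q) (hF : Fintype.card F = q ^ 2) :
    ∀ e ∈ [2, 3, 4, 6, 8, 10, 12, 18], Kill ↥(twistedE6 F q) q e e := by
  obtain ⟨k, _, _, f, r, hpp, hkp, e', hk, hka, he0', hcF⟩ := H378.TorFin.exists_closure F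
  obtain ⟨e, he0, hqe⟩ : ∃ e, 0 < e ∧ q = r ^ e := by
    obtain ⟨r', e, hr', he, rfl⟩ := hq
    have h1 : r' ∣ r ^ e' := by
      rw [← hcF, Nat.card_eq_fintype_card, hF]
      exact (dvd_pow_self r' he.ne').trans (dvd_pow_self _ two_ne_zero)
    have h2 : r' = r := (Nat.prime_dvd_prime_iff_eq hr'.nat_prime hpp.out).1 (hr'.nat_prime.dvd_of_dvd_pow h1)
    exact ⟨e, he, by rw [h2]⟩
  have cs := CoxeterMatrix.E₆.toCoxeterSystem
  have hW := finite_W e6T cs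
  have S := setup_twE6 cs hk f he0 hqe hq hF
  have h1 : (-1 : ℤ) = 1 ∨ (-1 : ℤ) = -1 := Or.inr rfl
  have hQ : (-(q : ℤ)) = -1 * (r ^ e : ℕ) := by rw [hqe]; ring
  have hpos : 0 < q := hq.pos
  have hcard : Nat.gcd 3 (q + 1) * Nat.card ↥(twistedE6 F q) = (r ^ e) ^ 36 *
      (([2, 5, 6, 8, 9, 12].map (fun i => (-(q : ℤ)) ^ i - 1)).prod).natAbs := by
    rw [S1066.result hq hF, ← hqe]
    have ev : ∀ i : ℕ, Even i → ((-(q : ℤ)) ^ i - 1).natAbs = q ^ i - 1 := by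
      intro i hi
      rw [hi.neg_pow]
      have h1 : 1 ≤ q ^ i := Nat.one_le_pow _ _ hpos
      have h2 : ((q : ℕ) : ℤ) ^ i - 1 = ((q ^ i - 1 : ℕ) : ℤ) := by push_cast [Nat.cast_sub h1]; ring
      rw [h2, Int.natAbs_natCast]
    have od : ∀ i : ℕ, Odd i → ((-(q : ℤ)) ^ i - 1).natAbs = q ^ i + 1 := by
      intro i hi
      rw [hi.neg_pow]
      have h2 : -((q : ℕ) : ℤ) ^ i - 1 = -((q ^ i + 1 : ℕ) : ℤ) := by push_cast; ring
      rw [h2, Int.natAbs_neg, Int.natAbs_natCast]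
    simp only [List.map_cons, List.map_nil, List.prod_cons, List.prod_nil, mul_one, Int.natAbs_mul]
    rw [ev 2 (by decide), od 5 (by decide), ev 6 (by decide), ev 8 (by decide), od 9 (by decide), ev 12 (by decide)]
    ring
  have hcm : CommIn (tau k r e) (embT f hq hF) := by
    refine commIn_of (TT chevE6 k) (TT_comm e6T) S.fix (fun y hy => ?_) (fun y hy a ha => ?_)
    · obtain ⟨x, t, ht, -, e1⟩ := tau_split f hqe hq hF hy
      exact ⟨x, t, ht, e1⟩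
    · exact tau_normal f hqe hq hF hy ha
  have hd : ∀ s : ℕ, s.Prime → s ∣ Nat.gcd 3 (q + 1) → s = 3 ∧ orderOf ((-(q : ℤ) : ℤ) : ZMod s) = 1 := by
    intro s hs h
    refine ⟨(Nat.prime_dvd_prime_iff_eq hs Nat.prime_three).1 (h.trans (Nat.gcd_dvd_left _ _)), ?_⟩
    have h2 : (s : ℤ) ∣ (-(q : ℤ)) ^ 1 - 1 := by
      have e1 : (-(q : ℤ)) ^ 1 - 1 = -((q + 1 : ℕ) : ℤ) := by push_cast; ring
      rw [e1, dvd_neg]
      exact_mod_cast h.trans (Nat.gcd_dvd_right _ _)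
    exact Nat.dvd_one.1 ((dvd_pow_sub_one_iff 1).1 h2)
  have main : ∀ e ∈ [3, 4, 6, 8, 10, 12, 18], Kill ↥(twistedE6 F q) q e e := by
    intro e1 he1
    obtain ⟨n, hn, hne⟩ := ord_neg_tw q e1 he1
    have hn' : n ∈ [1, 2, 3, 4, 5, 6, 8, 9, 12] ∧ n ≠ 1 := by
      have : ∀ n ∈ [3, 4, 5, 6, 8, 9, 12], n ∈ [1, 2, 3, 4, 5, 6, 8, 9, 12] ∧ n ≠ 1 := by decide
      exact this n hn
    have he10 : 0 < e1 := by
      have : ∀ n ∈ [3, 4, 6, 8, 10, 12, 18], 0 < n := by decide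
      exact this e1 he1
    refine kill_of hpp.out he0 hqe he10 fun s t hs ht hst hs2 ht2 hsp htp hsn htn => ?_
    have h3 := hne s hs hs2 hsn
    have h4 := hne t ht ht2 htn
    exact not_same_noBad e6T cs S h1 lists_E6 (hasTor_tw cs) hQ (idx_E6 n hn'.1) (noBad_E6 n hn) (hasF_E6 n hn'.1)
      hcard hs ht hst hs2 ht2 hsp htp (fun h => hn'.2 (by rw [← h3, (hd s hs h).2]))
      (fun h => hn'.2 (by rw [← h4, (hd t ht h).2])) h3 h4
  intro e1 he1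
  rcases List.mem_cons.1 he1 with rfl | he1
  · refine kill_of hpp.out he0 hqe (by norm_num) fun s t hs ht hst hs2 ht2 hsp htp hsn htn => ?_
    have key : ∀ s : ℕ, s.Prime → s ≠ 2 → orderOf (q : ZMod s) = 2 → (s : ℤ) ∣ -(q : ℤ) - 1 := by
      intro s hs hs2 h
      have h3 := ord_neg_two hs hs2 (m := 1) odd_one h
      have h4 := (dvd_pow_sub_one_iff (r := s) (Q := -(q : ℤ)) 1).2 (by
        rw [Int.cast_neg, Int.cast_natCast, h3])
      rwa [pow_one] at h4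
    by_cases hs3 : s = 3
    · have ht3 : t ≠ 3 := fun h => hst (hs3.trans h.symm)
      exact fun h => not_same_oneD e6T cs S hcm h1 (hasTor_tw cs 1) hQ (by norm_num) ht hs hst.symm ht2 hs2 htp hsp
        (fun h => ht3 (hd t ht h).1) (key t ht ht2 htn) (key s hs hs2 hsn) h.symm
    · exact not_same_oneD e6T cs S hcm h1 (hasTor_tw cs 1) hQ (by norm_num) hs ht hst hs2 ht2 hsp htp
        (fun h => hs3 (hd s hs h).1) (key s hs hs2 hsn) (key t ht ht2 htn)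
  · exact main e1 he1

end Cfsg.Agent.H755.PQ
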