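import Cfsg.Agent.H755.PQ.TorDualTab

/-!
# S4612: tori, pairs of different orders (helper755)

For each exceptional group `DeadZ degs d X Q n m` (see `TorDual`): `r` a good prime of order `n` modulo `Q` and `s` a
prime dividing `Φ_m(Q)` (also `2`, `3`, ...): not `Same r s X`.

`Kill`: `pairs_E6`, `pairs_E7`, `pairs_E8`, `pairs_2E6`; `KillTwo`: `two_F4`, `two_E6`, `two_E8`, `two_2E6`, `two_E7`;
small primes: `small_*`.
-/

set_option autoImplicit false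
set_option linter.unusedSectionVars false
set_option linter.unusedVariables false

namespace Cfsg.Agent.H755.PQ

open CoxeterSystem Cfsg Cfsg.Lie Cfsg.Lie.ChevalleyDatum
open Cfsg.Agent.ChevalleyStructure Cfsg.Agent.ChevalleyStructure.Elts Cfsg.Agent.ChevalleyStructure.CoxeterGeom
  Cfsg.Agent.ChevalleyStructure.CoxeterGeomTypes Cfsg.Agent.ChevalleyStructure.NPerm
open Cfsg.Agent.Tits.Roots Cfsg.Agent.Tits.Core Cfsg.Agent.Nodes Cfsg.Agent.Nodes.Reps Cfsg.Agent.Nodes.BNOf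
  Cfsg.Agent.Nodes.RGDChev Cfsg.Agent.Nodes.Bruhat Cfsg.Agent.Nodes.SubComb Cfsg.Agent.Nodes.Coroot
open Cfsg.Agent.KFacts.RgdField Cfsg.Agent.KFacts.RgdChevCoord Cfsg.Agent.BpExc.TorCent Cfsg.Agent.BpExc.TorChev
open Cfsg.Agent.GpExc.Field Cfsg.Agent.BpExc.Tow Cfsg.Agent.BpExc.TowChev Cfsg.Agent.BpExc.Fr
  Cfsg.Agent.BpExc.LangFr Cfsg.Agent.LangThm Cfsg.Agent.BpExc Cfsg.Agent.H129.TorusChar Cfsg.Agent.H129.TorusMain
open Cfsg.Agent.H129.TorAct (cX_tau tau_mem exists_theta)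
open Cfsg.Agent.H630.NH Cfsg.Agent.H630.Exc Cfsg.Agent.H317.PQ Cfsg.Agent.H990.PQ
open Cfsg.Agent.H130.WeylCk Cfsg.Agent.H130.PolyL Cfsg.Agent.H130.WeylTab

universe u v

/-- **Type `G₂`.** -/
theorem deadZ_G2 (F : Type u) [Field F] [Fintype F] {n : ℕ} (hn : 1 < n ∧ n ∈ H130.PolyL.idx) {m : ℕ}
    (hm : 0 < m ∧ m ∈ H130.PolyL.idx) (H : HasD alG2 2 [2, 6] n m) :
    DeadZ [2, 6] 1 ↥(chevG2.group F) (Fintype.card F : ℤ) n m := by
  obtain ⟨k, _, _, f, p, hpp, hkp, e, hk, hka, he0, hcF⟩ := H378.TorFin.exists_closure F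
  have cs := CoxeterMatrix.G₂.toCoxeterSystem
  have hW := finite_W g2T cs
  have hcF' : Fintype.card F = p ^ e := by rw [← Nat.card_eq_fintype_card, hcF]
  have S := setup_untw g2T cs hk f he0 hcF' invC_G2 one_ne_zero
  have hpos : 0 < p ^ e := pow_pos hpp.out.pos _
  have hcard : 1 * Nat.card ↥(chevG2.group F) = (p ^ e) ^ 6 *
      (([2, 6].map (fun i => ((p ^ e : ℕ) : ℤ) ^ i - 1)).prod).natAbs := by
    rw [natAbs_prod _ hpos, one_mul, S1059.result hcF']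
    simp only [List.map_cons, List.map_nil, List.prod_cons, List.prod_nil, mul_one]
    ring
  have h1 : (1 : ℤ) = 1 ∨ (1 : ℤ) = -1 := Or.inl rfl
  rw [hcF']
  refine deadZ_of_setup g2T cs S h1 lists_G2 (hasTor_G2 cs 1 h1) (one_mul _).symm hcard (fun s hs h => ?_) hn hm H
  refine ⟨h.trans (Nat.gcd_dvd_left _ _), ?_⟩
  have h2 : s ∣ p ^ e - 1 := by rw [← hcF]; exact h.trans (Nat.gcd_dvd_right _ _)
  have h3 : ((p ^ e : ℕ) : ℤ) - 1 = ((p ^ e - 1 : ℕ) : ℤ) := by push_cast [Nat.cast_sub hpos]; ring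
  rw [h3]
  exact_mod_cast h2

/-- **Type `F₄`.** -/
theorem deadZ_F4 (F : Type u) [Field F] [Fintype F] {n : ℕ} (hn : 1 < n ∧ n ∈ H130.PolyL.idx) {m : ℕ}
    (hm : 0 < m ∧ m ∈ H130.PolyL.idx) (H : HasD alF4 4 [2, 6, 8, 12] n m) :
    DeadZ [2, 6, 8, 12] 1 ↥(chevF4.group F) (Fintype.card F : ℤ) n m := by
  obtain ⟨k, _, _, f, p, hpp, hkp, e, hk, hka, he0, hcF⟩ := H378.TorFin.exists_closure F
  have cs := CoxeterMatrix.F₄.toCoxeterSystem
  have hW := finite_W f4T cs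
  have hcF' : Fintype.card F = p ^ e := by rw [← Nat.card_eq_fintype_card, hcF]
  have S := setup_untw f4T cs hk f he0 hcF' invC_F4 one_ne_zero
  have hpos : 0 < p ^ e := pow_pos hpp.out.pos _
  have hcard : 1 * Nat.card ↥(chevF4.group F) = (p ^ e) ^ 24 *
      (([2, 6, 8, 12].map (fun i => ((p ^ e : ℕ) : ℤ) ^ i - 1)).prod).natAbs := by
    rw [natAbs_prod _ hpos, one_mul, S1062.result hcF']
    simp only [List.map_cons, List.map_nil, List.prod_cons, List.prod_nil, mul_one]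
    ring
  have h1 : (1 : ℤ) = 1 ∨ (1 : ℤ) = -1 := Or.inl rfl
  rw [hcF']
  refine deadZ_of_setup f4T cs S h1 lists_F4 (hasTor_F4 cs 1 h1) (one_mul _).symm hcard (fun s hs h => ?_) hn hm H
  refine ⟨h.trans (Nat.gcd_dvd_left _ _), ?_⟩
  have h2 : s ∣ p ^ e - 1 := by rw [← hcF]; exact h.trans (Nat.gcd_dvd_right _ _)
  have h3 : ((p ^ e : ℕ) : ℤ) - 1 = ((p ^ e - 1 : ℕ) : ℤ) := by push_cast [Nat.cast_sub hpos]; ring
  rw [h3]
  exact_mod_cast h2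

/-- **Type `E₆`.** -/
theorem deadZ_E6 (F : Type u) [Field F] [Fintype F] {n : ℕ} (hn : 1 < n ∧ n ∈ H130.PolyL.idx) {m : ℕ}
    (hm : 0 < m ∧ m ∈ H130.PolyL.idx) (H : HasD alE6 6 [2, 5, 6, 8, 9, 12] n m) :
    DeadZ [2, 5, 6, 8, 9, 12] 3 ↥(chevE6.group F) (Fintype.card F : ℤ) n m := by
  obtain ⟨k, _, _, f, p, hpp, hkp, e, hk, hka, he0, hcF⟩ := H378.TorFin.exists_closure F
  have cs := CoxeterMatrix.E₆.toCoxeterSystem
  have hW := finite_W e6T cs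
  have hcF' : Fintype.card F = p ^ e := by rw [← Nat.card_eq_fintype_card, hcF]
  have S := setup_untw e6T cs hk f he0 hcF' invC_E6 three_ne_zero
  have hpos : 0 < p ^ e := pow_pos hpp.out.pos _
  have hcard : Nat.gcd 3 (p ^ e - 1) * Nat.card ↥(chevE6.group F) = (p ^ e) ^ 36 *
      (([2, 5, 6, 8, 9, 12].map (fun i => ((p ^ e : ℕ) : ℤ) ^ i - 1)).prod).natAbs := by
    rw [natAbs_prod _ hpos, S1063.result hcF']
    simp only [List.map_cons, List.map_nil, List.prod_cons, List.prod_nil, mul_one]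
    ring
  have h1 : (1 : ℤ) = 1 ∨ (1 : ℤ) = -1 := Or.inl rfl
  rw [hcF']
  refine deadZ_of_setup e6T cs S h1 lists_E6 (hasTor_one e6T cs) (one_mul _).symm hcard (fun s hs h => ?_) hn hm H
  refine ⟨h.trans (Nat.gcd_dvd_left _ _), ?_⟩
  have h2 : s ∣ p ^ e - 1 := by rw [← hcF]; exact h.trans (Nat.gcd_dvd_right _ _)
  have h3 : ((p ^ e : ℕ) : ℤ) - 1 = ((p ^ e - 1 : ℕ) : ℤ) := by push_cast [Nat.cast_sub hpos]; ring
  rw [h3]
  exact_mod_cast h2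

/-- **Type `E₇`.** -/
theorem deadZ_E7 (F : Type u) [Field F] [Fintype F] {n : ℕ} (hn : 1 < n ∧ n ∈ H130.PolyL.idx) {m : ℕ}
    (hm : 0 < m ∧ m ∈ H130.PolyL.idx) (H : HasD alE7 7 [2, 6, 8, 10, 12, 14, 18] n m) :
    DeadZ [2, 6, 8, 10, 12, 14, 18] 2 ↥(chevE7.group F) (Fintype.card F : ℤ) n m := by
  obtain ⟨k, _, _, f, p, hpp, hkp, e, hk, hka, he0, hcF⟩ := H378.TorFin.exists_closure F
  have cs := CoxeterMatrix.E₇.toCoxeterSystem
  have hW := finite_W e7T cs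
  have hcF' : Fintype.card F = p ^ e := by rw [← Nat.card_eq_fintype_card, hcF]
  have S := setup_untw e7T cs hk f he0 hcF' invC_E7 two_ne_zero
  have hpos : 0 < p ^ e := pow_pos hpp.out.pos _
  have hcard : Nat.gcd 2 (p ^ e - 1) * Nat.card ↥(chevE7.group F) = (p ^ e) ^ 63 *
      (([2, 6, 8, 10, 12, 14, 18].map (fun i => ((p ^ e : ℕ) : ℤ) ^ i - 1)).prod).natAbs := by
    rw [natAbs_prod _ hpos, S1064.result hcF']
    simp only [List.map_cons, List.map_nil, List.prod_cons, List.prod_nil, mul_one]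
    ring
  have h1 : (1 : ℤ) = 1 ∨ (1 : ℤ) = -1 := Or.inl rfl
  rw [hcF']
  refine deadZ_of_setup e7T cs S h1 lists_E7 (hasTor_E7 cs 1 h1) (one_mul _).symm hcard (fun s hs h => ?_) hn hm H
  refine ⟨h.trans (Nat.gcd_dvd_left _ _), ?_⟩
  have h2 : s ∣ p ^ e - 1 := by rw [← hcF]; exact h.trans (Nat.gcd_dvd_right _ _)
  have h3 : ((p ^ e : ℕ) : ℤ) - 1 = ((p ^ e - 1 : ℕ) : ℤ) := by push_cast [Nat.cast_sub hpos]; ring
  rw [h3]
  exact_mod_cast h2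

/-- **Type `E₈`.** -/
theorem deadZ_E8 (F : Type u) [Field F] [Fintype F] {n : ℕ} (hn : 1 < n ∧ n ∈ H130.PolyL.idx) {m : ℕ}
    (hm : 0 < m ∧ m ∈ H130.PolyL.idx) (H : HasD alE8 8 [2, 8, 12, 14, 18, 20, 24, 30] n m) :
    DeadZ [2, 8, 12, 14, 18, 20, 24, 30] 1 ↥(chevE8.group F) (Fintype.card F : ℤ) n m := by
  obtain ⟨k, _, _, f, p, hpp, hkp, e, hk, hka, he0, hcF⟩ := H378.TorFin.exists_closure F
  have cs := CoxeterMatrix.E₈.toCoxeterSystem
  have hW := finite_W e8T cs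
  have hcF' : Fintype.card F = p ^ e := by rw [← Nat.card_eq_fintype_card, hcF]
  have S := setup_untw e8T cs hk f he0 hcF' invC_E8 one_ne_zero
  have hpos : 0 < p ^ e := pow_pos hpp.out.pos _
  have hcard : 1 * Nat.card ↥(chevE8.group F) = (p ^ e) ^ 120 *
      (([2, 8, 12, 14, 18, 20, 24, 30].map (fun i => ((p ^ e : ℕ) : ℤ) ^ i - 1)).prod).natAbs := by
    rw [natAbs_prod _ hpos, one_mul, S1065.result hcF']
    simp only [List.map_cons, List.map_nil, List.prod_cons, List.prod_nil, mul_one]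
    ring
  have h1 : (1 : ℤ) = 1 ∨ (1 : ℤ) = -1 := Or.inl rfl
  rw [hcF']
  refine deadZ_of_setup e8T cs S h1 lists_E8 (hasTor_E8 cs 1 h1) (one_mul _).symm hcard (fun s hs h => ?_) hn hm H
  refine ⟨h.trans (Nat.gcd_dvd_left _ _), ?_⟩
  have h2 : s ∣ p ^ e - 1 := by rw [← hcF]; exact h.trans (Nat.gcd_dvd_right _ _)
  have h3 : ((p ^ e : ℕ) : ℤ) - 1 = ((p ^ e - 1 : ℕ) : ℤ) := by push_cast [Nat.cast_sub hpos]; ring
  rw [h3]
  exact_mod_cast h2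

end Cfsg.Agent.H755.PQ
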