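import Cfsg.Agent.H755.PQ.Tor

/-!
# Principal blocks and twisted tori: certificates (helper755)

* `cert_data` : the vectors and functionals of a certificate `H130.WeylCk.Cert`;
* `Setup.not_same_cert` : `r` good, `s` arbitrary (not dividing `d`, `c`), both of order `n`: not `Same r s`;
* `Setup.not_same_reg` : the same for `r` regular (table `RegCk`), for example bad;
* `IsTor.dvd_card_comm` : primes dividing the index `d`;
* `ord_neg_odd`, `ord_neg_two`, `ord_neg_four` : the order of `-q`.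
-/

set_option autoImplicit false
set_option linter.unusedSectionVars false
set_option linter.unusedVariables false

namespace Cfsg.Agent.H755.PQ

open CoxeterSystem Cfsg Cfsg.Lie Cfsg.Lie.ChevalleyDatum
open Cfsg.Agent.ChevalleyStructure Cfsg.Agent.ChevalleyStructure.Elts Cfsg.Agent.ChevalleyStructure.CoxeterGeom
  Cfsg.Agent.ChevalleyStructure.CoxeterGeomTypes Cfsg.Agent.ChevalleyStructure.NPerm
open Cfsg.Agent.Tits.Roots Cfsg.Agent.Tits.Core Cfsg.Agent.Nodes Cfsg.Agent.Nodes.Reps Cfsg.Agent.Nodes.BNOf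
  Cfsg.Agent.Nodes.RGDChev Cfsg.Agent.Nodes.Bruhat Cfsg.Agent.Nodes.SubComb Cfsg.Agent.Nodes.Coroot
open Cfsg.Agent.KFacts.RgdField Cfsg.Agent.KFacts.RgdChevCoord Cfsg.Agent.BpExc.TorCent Cfsg.Agent.BpExc.TorChev
open Cfsg.Agent.GpExc.Field Cfsg.Agent.BpExc.Tow Cfsg.Agent.BpExc.TowChev Cfsg.Agent.BpExc.Fr
  Cfsg.Agent.BpExc.LangFr Cfsg.Agent.LangThm Cfsg.Agent.BpExc Cfsg.Agent.H129.TorusChar Cfsg.Agent.H129.TorusMain
open Cfsg.Agent.H129.TorAct (cX_tau tau_mem exists_theta)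
open Cfsg.Agent.H630.NH Cfsg.Agent.H630.Exc Cfsg.Agent.H317.PQ Cfsg.Agent.H990.PQ
open Cfsg.Agent.H130.WeylCk Cfsg.Agent.H130.PolyL

universe u v

/-! ### the order of `-x` -/

section Neg

variable {r : ℕ}

theorem two_ne {r : ℕ} (hr : r.Prime) (hr2 : r ≠ 2) : (1 : ZMod r) ≠ -1 := by
  have : Fact r.Prime := ⟨hr⟩
  intro h
  have h1 : ((2 : ℕ) : ZMod r) = 0 := by
    have h2 : (1 : ZMod r) + 1 = 0 := by nth_rewrite 2 [h]; ring
    push_cast
    rw [← h2]; norm_num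
  rw [ZMod.natCast_eq_zero_iff] at h1
  exact hr2 ((Nat.prime_dvd_prime_iff_eq hr Nat.prime_two).1 h1)

theorem pow_neg_dvd (x : ZMod r) (k : ℕ) (h : (-x) ^ k = 1) : (Even k ∧ x ^ k = 1) ∨ (Odd k ∧ x ^ k = -1) := by
  rcases Nat.even_or_odd k with hk | hk
  · left; rw [hk.neg_pow] at h; exact ⟨hk, h⟩
  · right; rw [hk.neg_pow] at h; exact ⟨hk, by rw [← h]; ring⟩

theorem ord_neg_odd (hr : r.Prime) (hr2 : r ≠ 2) {x : ZMod r} (ho : Odd (orderOf x)) :
    orderOf (-x) = 2 * orderOf x := by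
  apply Nat.dvd_antisymm
  · apply orderOf_dvd_of_pow_eq_one
    rw [(even_two_mul _).neg_pow, mul_comm, pow_mul, pow_orderOf_eq_one, one_pow]
  · have h1 := pow_orderOf_eq_one (-x)
    rcases pow_neg_dvd x _ h1 with ⟨h2, h3⟩ | ⟨h2, h3⟩
    · have h4 := orderOf_dvd_of_pow_eq_one h3
      exact Nat.Coprime.mul_dvd_of_dvd_of_dvd ((Nat.coprime_two_left).2 ho) h2.two_dvd h4
    · exfalso
      have h4 : x ^ (orderOf (-x) * 2) = 1 := by rw [pow_mul, h3]; ring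
      have h5 := orderOf_dvd_of_pow_eq_one h4
      have h6 := Nat.Coprime.dvd_of_dvd_mul_right ((Nat.coprime_two_right).2 ho) h5
      rw [orderOf_dvd_iff_pow_eq_one, h3] at h6
      exact two_ne hr hr2 h6.symm

theorem ord_neg_two (hr : r.Prime) (hr2 : r ≠ 2) {x : ZMod r} {m : ℕ} (hm : Odd m) (ho : orderOf x = 2 * m) :
    orderOf (-x) = m := by
  have h0 : x ^ m = -1 := by
    have h1 : (x ^ m) ^ 2 = 1 := by rw [← pow_mul, mul_comm, ← ho, pow_orderOf_eq_one]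
    have : Fact r.Prime := ⟨hr⟩
    rw [sq] at h1
    rcases mul_self_eq_one_iff.1 h1 with h2 | h2
    · exfalso
      have h3 := orderOf_dvd_of_pow_eq_one h2
      rw [ho] at h3
      have h4 : 0 < m := hm.pos
      have := Nat.le_of_dvd h4 h3
      omega
    · exact h2
  apply Nat.dvd_antisymm
  · apply orderOf_dvd_of_pow_eq_one
    rw [hm.neg_pow, h0]; ring
  · have h1 := pow_orderOf_eq_one (-x)
    rcases pow_neg_dvd x _ h1 with ⟨h2, h3⟩ | ⟨h2, h3⟩
    · have h4 := orderOf_dvd_of_pow_eq_one h3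
      rw [ho] at h4
      exact (dvd_mul_left _ _).trans h4
    · have h4 : x ^ (orderOf (-x) * 2) = 1 := by rw [pow_mul, h3]; ring
      have h5 := orderOf_dvd_of_pow_eq_one h4
      rw [ho, mul_comm 2 m] at h5
      exact Nat.dvd_of_mul_dvd_mul_right (by norm_num) h5

theorem ord_neg_four (hr : r.Prime) (hr2 : r ≠ 2) {x : ZMod r} (ho : 4 ∣ orderOf x) : orderOf (-x) = orderOf x := by
  apply Nat.dvd_antisymm
  · apply orderOf_dvd_of_pow_eq_one
    rw [(even_iff_two_dvd.2 ((by norm_num : (2 : ℕ) ∣ 4).trans ho)).neg_pow, pow_orderOf_eq_one]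
  · have h1 := pow_orderOf_eq_one (-x)
    rcases pow_neg_dvd x _ h1 with ⟨h2, h3⟩ | ⟨h2, h3⟩
    · exact orderOf_dvd_of_pow_eq_one h3
    · exfalso
      have h4 : x ^ (orderOf (-x) * 2) = 1 := by rw [pow_mul, h3]; ring
      have h5 := ho.trans (orderOf_dvd_of_pow_eq_one h4)
      obtain ⟨j, hj⟩ := h2
      omega

end Neg

variable {D : ChevalleyDatum} {l : ℕ} {M : CoxeterMatrix (Fin l)} (hp : IsType D l M)
  {W : Type*} [Group W] (cs : CoxeterSystem M W)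

/-- the vectors and functionals of a certificate -/
theorem cert_data {Al : List (List ℤ)} (hA : MatList (cartanOf D l) Al) {word : List (Fin l)} {j n a : ℕ}
    (hn : n ∈ H130.PolyL.idx) {c : ℤ} {xs ys : List (List ℤ)} (H : Cert Al l n a word j c xs ys) :
    ∃ (x : Fin a → Fin l → ℤ) (y : Fin a → ((Fin l → ℤ) →ₗ[ℤ] ℤ)),
      (∀ i, Polynomial.aeval (rep cs hp.isCartan (cs.wordProd word ^ j)) (Polynomial.cyclotomic n ℤ) (x i) = 0) ∧
      (∀ i i', ∀ j' < (Polynomial.cyclotomic n ℤ).natDegree,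
        y i ((rep cs hp.isCartan (cs.wordProd word ^ j) ^ j') (x i')) =
        if i = i' ∧ j' + 1 = (Polynomial.cyclotomic n ℤ).natDegree then c else 0) := by
  obtain ⟨h1, h2, h3, h4⟩ := H
  refine ⟨fun i => toFn l (xs.getD i []), fun i => fn l (ys.getD i []), ?_, ?_⟩
  · intro i
    rw [cyclotomic_eq _ hn, ← toFn_horner cs hp.isCartan hA word j _ (h2 i).1, h3 i, toFn_replicate]
  · intro i i' j' hj
    have hdeg := natDegree_cyclotomic_eq hn
    have h5 := h4 i i' ⟨j', by omega⟩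
    have h6 : (fn l (ys.getD i [])) ((rep cs hp.isCartan (cs.wordProd word ^ j) ^ j') (toFn l (xs.getD i' []))) =
        dot (ys.getD i []) (acn Al word (j * j') (xs.getD i' [])) := by
      rw [dot_eq _ _ (h2 i).2 (by rw [length_acn, (h2 i').1]), toFn_acn cs hp.isCartan hA word _ _ (h2 i').1, map_pow,
        ← pow_mul]
      rfl
    rw [h6, h5]
    congr 1
    apply propext
    constructor
    · rintro ⟨h7, h8⟩
      exact ⟨h7, by simp only at h8; omega⟩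
    · rintro ⟨h7, h8⟩
      exact ⟨h7, by simp only; omega⟩

variable {k : Type u} [Field k] {p e : ℕ} [hpF : Fact p.Prime] [CharP k p] {σ : MulAut ↥(D.group k)}
  {g : (Fin l → ℤ) ≃+ (Fin l → ℤ)}
  {X : Type v} [Group X] {e0 : X →* ↥(D.group k)} {d : ℕ} {S : Setup hp cs p e σ g e0 d}

section Tor

variable {ε : ℤ} {R : Module.End ℤ (Fin l → ℤ)} {T : Subgroup X}

/-- **A prime dividing the index `d`.** -/
theorem IsTor.dvd_card_comm (h : IsTor hp cs S ε R T) [IsAlgClosed k] [Finite W] [Finite X] (hcm : CommIn σ e0)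
    (hε : ε = 1 ∨ ε = -1) {r : ℕ} (hrp : r.Prime) (hrc : r ≠ p) (hr2 : r ≠ 2) {Q : ℤ} (hQ : Q = ε * (p ^ e : ℕ))
    (hrQ : (r : ℤ) ∣ Q - 1) (hR : R = 1) (hl : 0 < l) : r ∣ Nat.card T := by
  have : Fact r.Prime := ⟨hrp⟩
  have hrZ := Nat.prime_iff_prime_int.1 hrp
  obtain ⟨w, n', z, hw, hn', hz, rfl⟩ := h
  subst hR
  have hQr := not_dvd_Q (p := p) (e := e) Fact.out hrp hrc hε hQ
  have hθ : ∀ x, (theta hp cs w g)^[2 * 1] x = x := theta_powR hp cs hε hw (one_pow 1)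
  have hq : (r : ℤ) ∣ ((p ^ e : ℕ) : ℤ) ^ (2 * 1) - 1 := by
    have h1 : ((p ^ e : ℕ) : ℤ) ^ (2 * 1) = Q ^ (2 * 1) := by rw [hQ, mul_pow, eps_pow_two hε, one_mul]
    rw [h1]
    exact hrQ.trans ⟨Q + 1, by ring⟩
  have hroot : ∀ a, IsRoot cs hp.isCartan a →
      ∃ L : (Fin l → ℤ) →+ ℤ, ¬ (r : ℤ) ∣ Lq L (theta hp cs w g) (p ^ e) (2 * 1) a := by
    intro a ha
    obtain ⟨i, hi⟩ := exists_coord hp cs ha hrp
    refine ⟨coordF l i, fun h => hi ?_⟩
    rw [Lq_eqR hp cs hε hw (one_pow 1) _ hQ, Finset.sum_range_one, pow_zero, Module.End.one_apply, Nat.sub_zero,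
      pow_one] at h
    rcases hrZ.dvd_mul.1 h with h2 | h2
    · exfalso
      have h3 : (r : ℤ) ∣ 2 := by
        have h4 := dvd_sub h2 hrQ
        have h5 : Q + 1 - (Q - 1) = 2 := by ring
        rwa [h5] at h4
      have h4 : r ∣ 2 := by exact_mod_cast h3
      exact hr2 ((Nat.prime_dvd_prime_iff_eq hrp Nat.prime_two).1 h4)
    · exact (hrZ.dvd_mul.1 h2).resolve_left hQr
  have hcw : ∀ (v : W) (x), rep cs hp.isCartan v (theta hp cs w g x) = theta hp cs w g (rep cs hp.isCartan v x) := by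
    intro v x
    rw [hw, hw, map_zsmul, Module.End.one_apply, Module.End.one_apply]
  obtain ⟨x, hx, hx1⟩ := S.root_comm hp cs hcm hrp hrc hr2 hn' hz (by norm_num) hθ hq hroot hcw
    (isRoot_sr cs hp.isCartan ⟨0, hl⟩)
  have hxT : x ∈ tX D k e0 z := hx.1
  have hne : x ≠ 1 := by
    rintro rfl
    apply hx1
    rw [map_one, mul_one, inv_mul_cancel, cX_one]
  have hord : orderOf x = r := orderOf_eq_prime hx.2 hne
  have h3 : orderOf (⟨x, hxT⟩ : tX D k e0 z) = r := by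
    rw [← Subgroup.orderOf_coe]
    exact hord
  rw [← h3]
  exact orderOf_dvd_natCard _

end Tor

variable (S)

include S

/-- **Good primes.** -/
theorem not_same_cert [IsAlgClosed k] [Finite W] [Finite X] {ε : ℤ} (hε : ε = 1 ∨ ε = -1)
    {Al : List (List ℤ)} (hA : MatList (cartanOf D l) Al) {word : List (Fin l)} {j : ℕ}
    (hT : HasTor hp cs g ε (cs.wordProd word ^ j)) {Q : ℤ} (hQ : Q = ε * (p ^ e : ℕ)) {n : ℕ} (hn0 : 0 < n)
    (hn : n ∈ H130.PolyL.idx) {degs : List ℕ} (ha : (degs.filter (fun i => n ∣ i)).length ≠ 0) {c : ℤ}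
    {xs ys : List (List ℤ)} (H : Cert Al l n (degs.filter (fun i => n ∣ i)).length word j c xs ys) {N' g' : ℕ}
    (hcard : g' * Nat.card X = (p ^ e) ^ N' * ((degs.map (fun i => Q ^ i - 1)).prod).natAbs)
    {r s : ℕ} (hr : r.Prime) (hs : s.Prime) (hrs : r ≠ s) (hr2 : r ≠ 2) (hs2 : s ≠ 2) (hrp : r ≠ p) (hsp : s ≠ p)
    (hrd : ¬ r ∣ d) (hsd : ¬ s ∣ d) (hrn : orderOf (Q : ZMod r) = n) (hsn : orderOf (Q : ZMod s) = n)
    (hrc : ¬ (r : ℤ) ∣ c) (hsc : ¬ (s : ℤ) ∣ c) (hgood : ∀ i ∈ degs, n ∣ i → ¬ r ∣ i) : ¬ Same r s X := by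
  obtain ⟨T, hTor⟩ := exists_isTor hp cs S hT
  have hRn := rep_pow_eq_one hp cs hA word j n H.1
  obtain ⟨x, y, hx, hy⟩ := cert_data hp cs hA hn H
  have hQr := not_dvd_Q (p := p) (e := e) Fact.out hr hrp hε hQ
  have hQs := not_dvd_Q (p := p) (e := e) Fact.out hs hsp hε hQ
  have hrn' : ¬ r ∣ n := by rw [← hrn]; exact not_dvd_ord hr hQr
  have hsn' : ¬ s ∣ n := by rw [← hsn]; exact not_dvd_ord hs hQs
  have hfs := exists_prod hr hQr degs (by rw [hrn]; exact hgood)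
  rw [hrn] at hfs
  have hi := IsTor.not_dvd_index hp cs hTor hε hr hrp hrd hr2 hQ hn0 hrn hRn dvd_rfl hrn' x y c hrc hx hy hcard hfs
  have hv : ((s ^ 1 : ℕ) : ℤ) ∣ (Polynomial.cyclotomic n ℤ).eval Q := by
    rw [pow_one, ← hsn]
    exact dvd_cyclotomic hs hQs
  have hsT := IsTor.pow_dvd_card hp cs hTor hε hs hsp hsd hs2 hQ hsn hRn dvd_rfl hsn' x y c hsc hx hy hv
  rw [pow_one] at hsT
  exact IsTor.not_same_good hp cs hTor hr hs hrs hi ((dvd_pow_self s ha).trans hsT)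

/-- **Regular elements.** -/
theorem not_same_regCert [IsAlgClosed k] [Finite W] [Finite X] {ε : ℤ} (hε : ε = 1 ∨ ε = -1)
    {Al : List (List ℤ)} (hA : MatList (cartanOf D l) Al) {word : List (Fin l)} {j : ℕ}
    (hT : HasTor hp cs g ε (cs.wordProd word ^ j)) {Q : ℤ} (hQ : Q = ε * (p ^ e : ℕ)) {n : ℕ}
    (hn : n ∈ H130.PolyL.idx) {a : ℕ} (ha : a ≠ 0) {c : ℤ}
    {xs ys : List (List ℤ)} (H : Cert Al l n a word j c xs ys)
    {r s : ℕ} (hr : r.Prime) (hs : s.Prime) (hrs : r ≠ s) (hr2 : r ≠ 2) (hs2 : s ≠ 2) (hrp : r ≠ p) (hsp : s ≠ p)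
    (hrd : ¬ r ∣ d) (hsd : ¬ s ∣ d) (hrn : orderOf (Q : ZMod r) = n) (hsn : orderOf (Q : ZMod s) = n)
    (hsc : ¬ (s : ℤ) ∣ c) (hreg : RegAt cs hp.isCartan (cs.wordProd word ^ j) n r Q) : ¬ Same r s X := by
  obtain ⟨T, hTor⟩ := exists_isTor hp cs S hT
  have hRn := rep_pow_eq_one hp cs hA word j n H.1
  obtain ⟨x, y, hx, hy⟩ := cert_data hp cs hA hn H
  have hQs := not_dvd_Q (p := p) (e := e) Fact.out hs hsp hε hQ
  have hsn' : ¬ s ∣ n := by rw [← hsn]; exact not_dvd_ord hs hQs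
  have hv : ((s ^ 1 : ℕ) : ℤ) ∣ (Polynomial.cyclotomic n ℤ).eval Q := by
    rw [pow_one, ← hsn]
    exact dvd_cyclotomic hs hQs
  have hsT := IsTor.pow_dvd_card hp cs hTor hε hs hsp hsd hs2 hQ hsn hRn dvd_rfl hsn' x y c hsc hx hy hv
  rw [pow_one] at hsT
  exact IsTor.not_same_reg hp cs hTor hε hr hs hrs hrp hrd hr2 hQ hRn ((dvd_pow_sub_one_iff n).2 (by rw [hrn]))
    hreg ((dvd_pow_self s ha).trans hsT)

end Cfsg.Agent.H755.PQ
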