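import Cfsg.Agent.H755.PQ.TorB

/-!
# Principal blocks and twisted tori: the order-`n` criterion (helper755)

* `NoBad degs n` : no odd prime of order `n` divides a degree divisible by `n`;
* `not_same_noBad` : then all pairs of primes of order `n` are excluded (not dividing `d`);
* `not_same_hasC` : the same if one of the primes is good (table `HasC`);
* `not_same_one`, `not_same_oneD` : the primes dividing `Q - 1` (bad or not, second version: also dividing `d`);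
* `kill_of` : the passage to `Kill`.
-/

set_option autoImplicit false
set_option linter.unusedSectionVars false
set_option linter.unusedVariables false

namespace Cfsg.Agent.H755.PQ

open CoxeterSystem Cfsg Cfsg.Lie Cfsg.Lie.ChevalleyDatum
open Cfsg.Agent.ChevalleyStructure Cfsg.Agent.ChevalleyStructure.Elts Cfsg.Agent.ChevalleyStructure.CoxeterGeom
  Cfsg.Agent.ChevalleyStructure.CoxeterGeomTypes Cfsg.Agent.ChevalleyStructure.NPerm
open Cfsg.Agent.Tits.Roots Cfsg.Agent.Tits.Core Cfsg.Agent.Nodes Cfsg.Agent.Nodes.Reps Cfsg.Agent.Nodes.BNOf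
  Cfsg.Agent.Nodes.RGDChev Cfsg.Agent.Nodes.Bruhat Cfsg.Agent.Nodes.SubComb Cfsg.Agent.Nodes.Coroot
open Cfsg.Agent.KFacts.RgdField Cfsg.Agent.KFacts.RgdChevCoord Cfsg.Agent.BpExc.TorCent Cfsg.Agent.BpExc.TorChev
open Cfsg.Agent.GpExc.Field Cfsg.Agent.BpExc.Tow Cfsg.Agent.BpExc.TowChev Cfsg.Agent.BpExc.Fr
  Cfsg.Agent.BpExc.LangFr Cfsg.Agent.LangThm Cfsg.Agent.BpExc Cfsg.Agent.H129.TorusChar Cfsg.Agent.H129.TorusMain
open Cfsg.Agent.H129.TorAct (cX_tau tau_mem exists_theta)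
open Cfsg.Agent.H630.NH Cfsg.Agent.H630.Exc Cfsg.Agent.H317.PQ Cfsg.Agent.H990.PQ
open Cfsg.Agent.H130.WeylCk Cfsg.Agent.H130.PolyL

universe u v

/-- no odd prime `r` with `n ∣ r - 1` divides a degree divisible by `n` -/
def NoBad (degs : List ℕ) (n : ℕ) : Prop :=
  (∀ i ∈ degs, i ≠ 0) ∧ (∃ i ∈ degs, n ∣ i) ∧
    ∀ i ∈ degs, n ∣ i → ∀ r < i + 1, r.Prime → r ≠ 2 → r ∣ i → ¬ n ∣ r - 1

instance decNoBad (degs : List ℕ) (n : ℕ) : Decidable (NoBad degs n) := by unfold NoBad; infer_instance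

/-- a certificate with constant `1` or `2` -/
def HasC (Al : List (List ℤ)) (l : ℕ) (degs : List ℕ) (n : ℕ) : Prop :=
  ∃ (word : List (Fin l)) (k : ℕ) (c : ℤ) (xs ys : List (List ℤ)),
    Cert Al l n (degs.filter (fun i => n ∣ i)).length word k c xs ys ∧ (c = 1 ∨ c = 2)

theorem not_dvd_c {c : ℤ} (hc : c = 1 ∨ c = 2) {r : ℕ} (hr : r.Prime) (hr2 : r ≠ 2) : ¬ (r : ℤ) ∣ c := by
  intro h
  rcases hc with rfl | rfl
  · have : r ∣ 1 := by exact_mod_cast h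
    exact hr.one_lt.ne' (Nat.dvd_one.1 this)
  · have : r ∣ 2 := by exact_mod_cast h
    exact hr2 ((Nat.prime_dvd_prime_iff_eq hr Nat.prime_two).1 this)

theorem NoBad.not_dvd {degs : List ℕ} {n : ℕ} (h : NoBad degs n) {r : ℕ} (hr : r.Prime) (hr2 : r ≠ 2)
    (hn : n ∣ r - 1) : ∀ i ∈ degs, n ∣ i → ¬ r ∣ i := by
  intro i hi hni hri
  have h1 := Nat.le_of_dvd (Nat.pos_of_ne_zero (h.1 i hi)) hri
  exact h.2.2 i hi hni r (by omega) hr hr2 hri hn

theorem length_ne {degs : List ℕ} {n : ℕ} (h : ∃ i ∈ degs, n ∣ i) : (degs.filter (fun i => n ∣ i)).length ≠ 0 := by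
  obtain ⟨i, hi, hni⟩ := h
  have : i ∈ degs.filter (fun i => n ∣ i) := List.mem_filter.2 ⟨hi, by simpa using hni⟩
  exact (List.length_pos_of_mem this).ne'

variable {D : ChevalleyDatum} {l : ℕ} {M : CoxeterMatrix (Fin l)} (hp : IsType D l M)
  {W : Type*} [Group W] (cs : CoxeterSystem M W)

variable {k : Type u} [Field k] {p e : ℕ} [hpF : Fact p.Prime] [CharP k p] {σ : MulAut ↥(D.group k)}
  {g : (Fin l → ℤ) ≃+ (Fin l → ℤ)}
  {X : Type v} [Group X] {e0 : X →* ↥(D.group k)} {d : ℕ} (S : Setup hp cs p e σ g e0 d)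

include S

/-- **No bad primes.** -/
theorem not_same_noBad [IsAlgClosed k] [Finite W] [Finite X] {ε : ℤ} (hε : ε = 1 ∨ ε = -1)
    {Al : List (List ℤ)} (hA : MatList (cartanOf D l) Al) (hT : ∀ w1, HasTor hp cs g ε w1) {Q : ℤ}
    (hQ : Q = ε * (p ^ e : ℕ)) {n : ℕ} (hn : 0 < n ∧ n ∈ H130.PolyL.idx) {degs : List ℕ} (hb : NoBad degs n)
    (H : HasF Al l degs n) {N' g' : ℕ}
    (hcard : g' * Nat.card X = (p ^ e) ^ N' * ((degs.map (fun i => Q ^ i - 1)).prod).natAbs)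
    {r s : ℕ} (hr : r.Prime) (hs : s.Prime) (hrs : r ≠ s) (hr2 : r ≠ 2) (hs2 : s ≠ 2) (hrp : r ≠ p) (hsp : s ≠ p)
    (hrd : ¬ r ∣ d) (hsd : ¬ s ∣ d) (hrn : orderOf (Q : ZMod r) = n) (hsn : orderOf (Q : ZMod s) = n) :
    ¬ Same r s X := by
  obtain ⟨word, j, c, xs, ys, hC, hc⟩ := H
  have hQr := not_dvd_Q (p := p) (e := e) Fact.out hr hrp hε hQ
  have hQs := not_dvd_Q (p := p) (e := e) Fact.out hs hsp hε hQ
  have hnr : n ∣ r - 1 := by rw [← hrn]; exact H630.Exc.ord_dvd hr hQr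
  have hns : n ∣ s - 1 := by rw [← hsn]; exact H630.Exc.ord_dvd hs hQs
  have key : ∀ r : ℕ, r.Prime → r ≠ 2 → n ∣ r - 1 → ¬ (r : ℤ) ∣ c := by
    intro r h1 h2 h3 h8
    have h9 := h8.trans hc
    have h10 : (r : ℤ) ∣ (((degs.filter (fun i => n ∣ i)).prod : ℕ) : ℤ) := h9
    have h11 : r ∣ (degs.filter (fun i => n ∣ i)).prod := Int.natCast_dvd_natCast.1 h10
    obtain ⟨i, hi, hri⟩ := (Prime.dvd_prod_iff (Nat.prime_iff.1 h1)).1 h11
    rw [List.mem_filter] at hi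
    exact hb.not_dvd h1 h2 h3 i hi.1 (of_decide_eq_true hi.2) hri
  exact not_same_cert hp cs S hε hA (hT _) hQ hn.1 hn.2 (length_ne hb.2.1) hC hcard hr hs hrs hr2 hs2 hrp hsp hrd hsd
    hrn hsn (key r hr hr2 hnr) (key s hs hs2 hns) (hb.not_dvd hr hr2 hnr)

/-- **One of the primes is good.** -/
theorem not_same_hasC [IsAlgClosed k] [Finite W] [Finite X] {ε : ℤ} (hε : ε = 1 ∨ ε = -1)
    {Al : List (List ℤ)} (hA : MatList (cartanOf D l) Al) (hT : ∀ w1, HasTor hp cs g ε w1) {Q : ℤ}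
    (hQ : Q = ε * (p ^ e : ℕ)) {n : ℕ} (hn : 0 < n ∧ n ∈ H130.PolyL.idx) {degs : List ℕ} (hne : ∃ i ∈ degs, n ∣ i)
    (H : HasC Al l degs n) {N' g' : ℕ}
    (hcard : g' * Nat.card X = (p ^ e) ^ N' * ((degs.map (fun i => Q ^ i - 1)).prod).natAbs)
    {r s : ℕ} (hr : r.Prime) (hs : s.Prime) (hrs : r ≠ s) (hr2 : r ≠ 2) (hs2 : s ≠ 2) (hrp : r ≠ p) (hsp : s ≠ p)
    (hrd : ¬ r ∣ d) (hsd : ¬ s ∣ d) (hrn : orderOf (Q : ZMod r) = n) (hsn : orderOf (Q : ZMod s) = n)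
    (hgood : (∀ i ∈ degs, n ∣ i → ¬ r ∣ i) ∨ (∀ i ∈ degs, n ∣ i → ¬ s ∣ i)) : ¬ Same r s X := by
  obtain ⟨word, j, c, xs, ys, hC, hc⟩ := H
  rcases hgood with hg | hg
  · exact not_same_cert hp cs S hε hA (hT _) hQ hn.1 hn.2 (length_ne hne) hC hcard hr hs hrs hr2 hs2 hrp hsp hrd hsd
      hrn hsn (not_dvd_c hc hr hr2) (not_dvd_c hc hs hs2) hg
  · exact fun h => not_same_cert hp cs S hε hA (hT _) hQ hn.1 hn.2 (length_ne hne) hC hcard hs hr hrs.symm hs2 hr2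
      hsp hrp hsd hrd hsn hrn (not_dvd_c hc hs hs2) (not_dvd_c hc hr hr2) hg h.symm

/-- a prime dividing `Q - 1` divides the order of the torus of `ε` -/
theorem dvd_card_one [IsAlgClosed k] [Finite W] [Finite X] {ε : ℤ} (hε : ε = 1 ∨ ε = -1) {T : Subgroup X}
    (h : IsTor hp cs S ε (rep cs hp.isCartan (1 : W)) T) {Q : ℤ}
    (hQ : Q = ε * (p ^ e : ℕ)) (hl : 0 < l) {s : ℕ} (hs : s.Prime) (hs2 : s ≠ 2) (hsp : s ≠ p)
    (hsd : ¬ s ∣ d) (hsn : (s : ℤ) ∣ Q - 1) : s ∣ Nat.card T := by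
  have hQs := not_dvd_Q (p := p) (e := e) Fact.out hs hsp hε hQ
  have hsn' : orderOf (Q : ZMod s) = 1 := by
    have h1 := (dvd_pow_sub_one_iff (r := s) (Q := Q) 1).1 (by rw [pow_one]; exact hsn)
    exact Nat.dvd_one.1 h1
  have h2 := IsTor.pow_dvd_card hp cs h hε hs hsp hsd hs2 hQ (n := 1) (N := 1) hsn' (by rw [map_one, one_pow]) dvd_rfl
    (fun h => hs.one_lt.ne' (Nat.dvd_one.1 h)) (a := 1) (fun _ => Pi.single ⟨0, hl⟩ 1)
    (fun _ => LinearMap.proj ⟨0, hl⟩) 1 (not_dvd_c (Or.inl rfl) hs hs2) (fun i => by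
      rw [map_one, Polynomial.cyclotomic_one, map_sub, Polynomial.aeval_X, map_one, sub_self, LinearMap.zero_apply])
    (fun i i' j hj => by
      rw [Polynomial.natDegree_cyclotomic, Nat.totient_one] at hj
      obtain rfl : j = 0 := by omega
      rw [pow_zero, Module.End.one_apply, LinearMap.proj_apply, Pi.single_eq_same, if_pos]
      exact ⟨Subsingleton.elim _ _, by rw [Polynomial.natDegree_cyclotomic, Nat.totient_one]⟩) (v := 1)
    (by rw [pow_one, Polynomial.cyclotomic_one, Polynomial.eval_sub, Polynomial.eval_X, Polynomial.eval_one]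
        exact hsn)
  rwa [pow_one, pow_one] at h2

/-- **Primes dividing `Q - 1`**, also bad ones. -/
theorem not_same_one [IsAlgClosed k] [Finite W] [Finite X] {ε : ℤ} (hε : ε = 1 ∨ ε = -1)
    (hT : HasTor hp cs g ε (1 : W)) {Q : ℤ} (hQ : Q = ε * (p ^ e : ℕ)) (hl : 0 < l)
    {r s : ℕ} (hr : r.Prime) (hs : s.Prime) (hrs : r ≠ s) (hr2 : r ≠ 2) (hs2 : s ≠ 2) (hrp : r ≠ p) (hsp : s ≠ p)
    (hrd : ¬ r ∣ d) (hsd : ¬ s ∣ d) (hrn : (r : ℤ) ∣ Q - 1) (hsn : (s : ℤ) ∣ Q - 1) : ¬ Same r s X := by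
  obtain ⟨T, hTor⟩ := exists_isTor hp cs S hT
  have hQr := not_dvd_Q (p := p) (e := e) Fact.out hr hrp hε hQ
  refine IsTor.not_same_reg hp cs hTor hε hr hs hrs hrp hrd hr2 hQ (n := 1) (by rw [map_one, one_pow])
    (by rw [pow_one]; exact hrn) (regAt_one hp cs hr hQr) (dvd_card_one hp cs S hε hTor hQ hl hs hs2 hsp hsd hsn)

/-- **Primes dividing `Q - 1`**, the second may divide the index `d`. -/
theorem not_same_oneD [IsAlgClosed k] [Finite W] [Finite X] (hcm : CommIn σ e0) {ε : ℤ} (hε : ε = 1 ∨ ε = -1)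
    (hT : HasTor hp cs g ε (1 : W)) {Q : ℤ} (hQ : Q = ε * (p ^ e : ℕ)) (hl : 0 < l)
    {r s : ℕ} (hr : r.Prime) (hs : s.Prime) (hrs : r ≠ s) (hr2 : r ≠ 2) (hs2 : s ≠ 2) (hrp : r ≠ p) (hsp : s ≠ p)
    (hrd : ¬ r ∣ d) (hrn : (r : ℤ) ∣ Q - 1) (hsn : (s : ℤ) ∣ Q - 1) : ¬ Same r s X := by
  obtain ⟨T, hTor⟩ := exists_isTor hp cs S hT
  have hQr := not_dvd_Q (p := p) (e := e) Fact.out hr hrp hε hQ
  refine IsTor.not_same_reg hp cs hTor hε hr hs hrs hrp hrd hr2 hQ (n := 1) (by rw [map_one, one_pow])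
    (by rw [pow_one]; exact hrn) (regAt_one hp cs hr hQr) (IsTor.dvd_card_comm hp cs hTor hcm hε hs hsp hs2 hQ hsn
      (map_one _) hl)

omit S

/-- the passage to `Kill` -/
theorem kill_of {p e : ℕ} (hp : p.Prime) (he : 0 < e) {X : Type v} [Group X] {q : ℕ} (hq : q = p ^ e) {n : ℕ}
    (hn : 0 < n)
    (H : ∀ r s : ℕ, r.Prime → s.Prime → r ≠ s → r ≠ 2 → s ≠ 2 → r ≠ p → s ≠ p → orderOf (q : ZMod r) = n →
      orderOf (q : ZMod s) = n → ¬ Same r s X) : Kill X q n n := by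
  have key : ∀ r : ℕ, r.Prime → ord q r = n → r ≠ p := by
    rintro r hr h rfl
    have : Fact r.Prime := ⟨hr⟩
    have h1 : ((q : ℕ) : ZMod r) = 0 := by
      rw [ZMod.natCast_eq_zero_iff, hq]
      exact dvd_pow_self _ he.ne'
    have h2 : orderOf ((q : ℕ) : ZMod r) = 0 := by
      rw [h1, orderOf_eq_zero_iff']
      intro m hm
      rw [zero_pow hm.ne']
      exact zero_ne_one
    rw [ord, h2] at h
    omega
  intro r s hr hs hr2 hs2 hrs _ _ h1 h2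
  exact H r s hr hs hrs hr2 hs2 (key r hr h1) (key s hs h2) h1 h2

end Cfsg.Agent.H755.PQ
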