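import Cfsg.Agent.H755.PQ.TorThree

/-!
# S4612: tori, quotients of the character lattice (helper755)

`IsTor.pow_dvd_card_dual` : the order of a torus from functionals `y` killing `P(R)`; no hypothesis on the prime
(also `2`, `3`, primes dividing the order of `R`).
`IsTor.not_dvd_index_dual` : the torus contains a Sylow subgroup.
`DCert` : certificates.
`not_same_dcert` : the torus contains a Sylow `r`-subgroup and an element of order `s`.
-/

set_option autoImplicit false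
set_option linter.unusedSectionVars false
set_option linter.unusedVariables false

namespace Cfsg.Agent.H755.PQ

open CoxeterSystem Cfsg Cfsg.Lie Cfsg.Lie.ChevalleyDatum
open Cfsg.Agent.ChevalleyStructure Cfsg.Agent.ChevalleyStructure.Elts Cfsg.Agent.ChevalleyStructure.CoxeterGeom
  Cfsg.Agent.ChevalleyStructure.CoxeterGeomTypes Cfsg.Agent.ChevalleyStructure.NPerm
open Cfsg.Agent.Tits.Roots Cfsg.Agent.Tits.Core Cfsg.Agent.Nodes Cfsg.Agent.Nodes.Reps Cfsg.Agent.Nodes.BNOf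
  Cfsg.Agent.Nodes.RGDChev Cfsg.Agent.Nodes.Bruhat Cfsg.Agent.Nodes.SubComb Cfsg.Agent.Nodes.Coroot
open Cfsg.Agent.KFacts.RgdField Cfsg.Agent.KFacts.RgdChevCoord Cfsg.Agent.BpExc.TorCent Cfsg.Agent.BpExc.TorChev
open Cfsg.Agent.GpExc.Field Cfsg.Agent.BpExc.Tow Cfsg.Agent.BpExc.TowChev Cfsg.Agent.BpExc.Fr
  Cfsg.Agent.BpExc.LangFr Cfsg.Agent.LangThm Cfsg.Agent.BpExc Cfsg.Agent.H129.TorusChar Cfsg.Agent.H129.TorusMain
open Cfsg.Agent.H129.TorAct (cX_tau tau_mem exists_theta)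
open Cfsg.Agent.H129.TorusUntw (phi phi_emb coe_phi isFrob_phi fr_phi)
open Cfsg.Agent.H630.NH Cfsg.Agent.H630.Exc Cfsg.Agent.H317.PQ Cfsg.Agent.H990.PQ
open Cfsg.Agent.H130.WeylCk Cfsg.Agent.H130.PolyL Cfsg.Agent.H130.WeylTab

universe u v

section Gen

variable {D : ChevalleyDatum} {l : ℕ} {M : CoxeterMatrix (Fin l)} (hp : IsType D l M)

/-- **The elements `ζ ^ L`**. -/
theorem exists_charL {k : Type u} [Field k] [IsAlgClosed k] {d' : ℕ} {B' : Fin l → Fin l → ℤ} (hB : InvC D l d' B')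
    (hd' : d' ≠ 0) {θ : (Fin l → ℤ) →+ (Fin l → ℤ)} {q : ℕ} {m : ℕ} (hm : (m : k) ≠ 0) :
    ∃ ζ : k, IsPrimitiveRoot ζ m ∧ ζ ≠ 0 ∧ ∀ L : (Fin l → ℤ) →+ ℤ, (∀ x, (m : ℤ) ∣ L (θ x) - q * L x) →
      ∃ t ∈ TT D k, (∀ x, cX hp t (θ x) = cX hp t x ^ q) ∧ t ^ m = 1 ∧ ∀ x, cX hp t x = ζ ^ L x := by
  have hr0 : NeZero (m : k) := ⟨hm⟩
  obtain ⟨ζ, hζ⟩ := HasEnoughRootsOfUnity.exists_primitiveRoot k m
  have hz0 : ζ ≠ 0 := by
    rintro rfl
    have h1 := hζ.pow_eq_one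
    have h2 : m ≠ 0 := by rintro rfl; exact hm Nat.cast_zero
    rw [zero_pow h2] at h1
    exact zero_ne_one h1
  refine ⟨ζ, hζ, hz0, fun L hL => ?_⟩
  have hφ : IsMC (fun x : Fin l → ℤ => ζ ^ L x) := by
    refine ⟨?_, fun x y => ?_⟩
    · show ζ ^ L 0 = 1
      rw [map_zero, zpow_zero]
    · show ζ ^ L (x + y) = _
      rw [map_add, zpow_add₀ hz0]
  obtain ⟨t, ht, hc⟩ := exists_cX hp hB hd' hφ (fun i => IsAlgClosed.exists_pow_nat_eq _ (Nat.pos_of_ne_zero hd'))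
  refine ⟨t, ht, fun x => ?_, ?_, fun x => by rw [hc]⟩
  · rw [hc, hc, ← zpow_natCast, ← zpow_mul]
    have h2 : ζ ^ (L (θ x) - q * L x) = 1 := (hζ.zpow_eq_one_iff_dvd _).2 (hL x)
    rw [zpow_sub₀ hz0, div_eq_one_iff_eq (zpow_ne_zero _ hz0)] at h2
    rw [h2, mul_comm]
  · refine cX_inj hp (pow_mem ht m) (one_mem _) fun i => ?_
    rw [cX_pow hp ht, cX_one, hc, ← zpow_natCast, ← zpow_mul, mul_comm, zpow_mul, zpow_natCast, hζ.pow_eq_one, one_zpow]

open Polynomial in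
/-- the functional `y ∘ U(R)`, `U = P / (X - Q)` -/
theorem dual_eig {R : Module.End ℤ (Fin l → ℤ)} {P : ℤ[X]} {m Q : ℤ} (hv : m ∣ P.eval Q)
    (y : (Fin l → ℤ) →ₗ[ℤ] ℤ) (hy0 : ∀ z, y (aeval R P z) = 0) (z : Fin l → ℤ) :
    m ∣ y (aeval R (P /ₘ (X - C Q)) (R z)) - Q * y (aeval R (P /ₘ (X - C Q)) z) := by
  obtain ⟨U, hU⟩ : ∃ U, U = P /ₘ (X - C Q) := ⟨_, rfl⟩
  have h1 : P = C (P.eval Q) + (X - C Q) * U := by
    rw [hU, ← modByMonic_X_sub_C_eq_C_eval]
    exact (modByMonic_add_div P _).symm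
  rw [← hU]
  have h2 : aeval R U (R z) - Q • aeval R U z = aeval R P z - (P.eval Q) • z := by
    have h3 : aeval R P z = (P.eval Q) • z + (R (aeval R U z) - Q • aeval R U z) := by
      conv_lhs => rw [h1]
      simp only [map_add, map_mul, map_sub, aeval_X, aeval_C, LinearMap.add_apply, Module.End.mul_apply,
        LinearMap.sub_apply, Module.algebraMap_end_apply]
    have h4 : aeval R U (R z) = R (aeval R U z) := by
      have h5 : aeval R U * R = R * aeval R U := by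
        have h6 : aeval R (U * X) = aeval R (X * U) := by rw [mul_comm]
        rwa [map_mul, map_mul, aeval_X] at h6
      exact congrArg (fun f : Module.End ℤ (Fin l → ℤ) => f z) h5
    rw [h3, h4]
    abel
  have h3 := congrArg y h2
  rw [map_sub, map_sub, hy0, map_smul, map_smul, smul_eq_mul, smul_eq_mul, zero_sub] at h3
  rw [h3]
  exact (hv.mul_right _).neg_right

variable {W : Type*} [Group W] (cs : CoxeterSystem M W)

variable {k : Type u} [Field k] {p e : ℕ} [hpF : Fact p.Prime] [CharP k p] {σ : MulAut ↥(D.group k)}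
  {g : (Fin l → ℤ) ≃+ (Fin l → ℤ)}
  {X : Type v} [Group X] {e0 : X →* ↥(D.group k)} {d : ℕ} {S : Setup hp cs p e σ g e0 d}
  {ε : ℤ} {R : Module.End ℤ (Fin l → ℤ)} {T : Subgroup X}

open Polynomial in
/-- **The order of a torus, dual form.** -/
theorem IsTor.pow_dvd_card_dual (h : IsTor hp cs S ε R T) [IsAlgClosed k] [Finite W] [Finite X]
    (hε : ε = 1 ∨ ε = -1) {r : ℕ} (hr : r.Prime) (hrp : r ≠ p) (hrd : ¬ r ∣ d) {Q : ℤ} (hQ : Q = ε * (p ^ e : ℕ))
    {P : ℤ[X]} (hPm : P.Monic) (hPd : 0 < P.natDegree)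
    {a : ℕ} (x : Fin a → Fin l → ℤ) (y : Fin a → ((Fin l → ℤ) →ₗ[ℤ] ℤ)) (c : ℤ)
    (hc : ¬ (r : ℤ) ∣ c) (hy0 : ∀ i z, y i (aeval R P z) = 0)
    (hy : ∀ i i', ∀ j < P.natDegree, y i ((R ^ j) (x i')) = if i = i' ∧ j + 1 = P.natDegree then c else 0)
    {v : ℕ} (hv : ((r ^ v : ℕ) : ℤ) ∣ P.eval Q) : (r ^ v) ^ a ∣ Nat.card T := by
  classical
  have : Fact r.Prime := ⟨hr⟩
  obtain ⟨w, n', z, hw, hn', hz, rfl⟩ := h
  obtain ⟨m, hm⟩ : ∃ m, m = r ^ v := ⟨_, rfl⟩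
  rw [← hm] at hv ⊢
  have hrZ := Nat.prime_iff_prime_int.1 hr
  have hpp : p.Prime := Fact.out
  have hrk : (r : k) ≠ 0 := by
    rw [Ne, CharP.cast_eq_zero_iff k p]
    intro h
    exact hrp ((Nat.prime_dvd_prime_iff_eq hpp hr).1 h).symm
  have hmk : (m : k) ≠ 0 := by rw [hm, Nat.cast_pow]; exact pow_ne_zero _ hrk
  have hm0 : 0 < m := by rw [hm]; exact pow_pos hr.pos _
  obtain ⟨B, d', hd', hB⟩ := S.inv
  obtain ⟨ζ, hζ, hz0, hchar⟩ := exists_charL hp hB hd' (θ := theta hp cs w g) (q := p ^ e) hmk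
  -- the functionals
  set L : (Fin a → Fin m) → ((Fin l → ℤ) →+ ℤ) := fun c' =>
    ∑ i, ((c' i : ℕ) : ℤ) • ((y i).comp (aeval R (P /ₘ (Polynomial.X - C Q)))).toAddMonoidHom with hL
  have hLap : ∀ c' b, L c' b = ∑ i, ((c' i : ℕ) : ℤ) * y i (aeval R (P /ₘ (Polynomial.X - C Q)) b) := by
    intro c' b
    simp only [hL]
    rw [AddMonoidHom.finsetSum_apply]
    rfl
  have hLdvd : ∀ c' b, (m : ℤ) ∣ L c' (theta hp cs w g b) - ((p ^ e : ℕ) : ℤ) * L c' b := by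
    intro c' b
    have h1 : L c' (theta hp cs w g b) - ((p ^ e : ℕ) : ℤ) * L c' b = ε * (L c' (R b) - Q * L c' b) := by
      rw [hw, map_zsmul, smul_eq_mul, hQ]
      have h2 : ε * ε = 1 := by rcases hε with rfl | rfl <;> norm_num
      linear_combination (((p ^ e : ℕ) : ℤ) * L c' b) * h2
    rw [h1]
    apply Dvd.dvd.mul_left
    rw [hLap, hLap, Finset.mul_sum, ← Finset.sum_sub_distrib]
    refine Finset.dvd_sum fun i _ => ?_
    have h3 := dual_eig hv (y i) (hy0 i) b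
    have h4 : ((c' i : ℕ) : ℤ) * y i (aeval R (P /ₘ (Polynomial.X - C Q)) (R b)) -
        Q * (((c' i : ℕ) : ℤ) * y i (aeval R (P /ₘ (Polynomial.X - C Q)) b)) =
        ((c' i : ℕ) : ℤ) * (y i (aeval R (P /ₘ (Polynomial.X - C Q)) (R b)) - Q * y i (aeval R (P /ₘ (Polynomial.X - C Q)) b)) := by ring
    rw [h4]
    exact h3.mul_left _
  -- the elements of `X`
  have hex : ∀ c' : Fin a → Fin m, ∃ x' : X, x' ∈ tXr hp S.inj z m ∧
      ∀ b, cX hp (z⁻¹ * e0 x' * z) b = ζ ^ L c' b := by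
    intro c'
    obtain ⟨t, ht, h1, h2, h3⟩ := hchar (L c') (hLdvd c')
    obtain ⟨x', hx'⟩ := S.exists_of_tau hp cs hz ((tau_iff hp cs S.lf S.frob S.fr hn' ht).2 h1) hr hrd ⟨v, by
      rw [← hm]; exact h2⟩
    refine ⟨x', ⟨by rw [mem_tX, hx']; exact ht, ?_⟩, fun b => by rw [hx', h3]⟩
    apply S.inj
    have h4 := S.conj_pow_eq hp cs (y := x') (z := z) m
    rw [hx', h2] at h4
    rw [map_one]
    have h5 : e0 (x' ^ m) = z * (z⁻¹ * e0 (x' ^ m) * z) * z⁻¹ := by group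
    rw [h5, ← h4]; group
  choose F hF1 hF2 using hex
  -- injectivity
  have hinj : Function.Injective F := by
    intro c1 c2 he
    funext i
    have h1 : (m : ℤ) ∣ L c1 (x i) - L c2 (x i) := by
      rw [← hζ.zpow_eq_one_iff_dvd, zpow_sub₀ hz0, div_eq_one_iff_eq (zpow_ne_zero _ hz0), ← hF2, ← hF2, he]
    have h2 : ∀ c', L c' (x i) = ((c' i : ℕ) : ℤ) * c := by
      intro c'
      rw [hLap]
      have h3 : ∀ i', y i' (aeval R (P /ₘ (Polynomial.X - C Q)) (x i)) = if i' = i then c else 0 := by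
        intro i'
        refine H130.Cok.functional hPm hPd Q (y i') (x i) _ fun j hj => ?_
        rw [hy i' i j hj]
        by_cases h : i' = i
        · simp [h]
        · simp [h]
      rw [Finset.sum_eq_single i]
      · rw [h3, if_pos rfl]
      · intro i' _ hi'
        rw [h3, if_neg hi', mul_zero]
      · intro h; exact absurd (Finset.mem_univ _) h
    rw [h2, h2, ← sub_mul] at h1
    have hcop : IsCoprime (m : ℤ) c := by
      rw [hm, Nat.cast_pow]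
      apply IsCoprime.pow_left
      rw [hrZ.irreducible.coprime_iff_not_dvd]
      exact hc
    have h5 := hcop.dvd_of_dvd_mul_right h1
    apply Fin.ext
    have h6 : ((c1 i : ℕ) : ℤ) - ((c2 i : ℕ) : ℤ) = 0 := by
      apply Int.eq_zero_of_abs_lt_dvd h5
      have := (c1 i).2
      have := (c2 i).2
      rw [abs_lt]
      constructor <;> omega
    omega
  -- counting
  have hK : IsPGroup r (tXr hp S.inj z m) := by
    rintro ⟨x', hx'⟩
    exact ⟨v, Subtype.ext (by rw [← hm]; exact hx'.2)⟩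
  obtain ⟨j, hj⟩ := IsPGroup.iff_card.1 hK
  have hle : m ^ a ≤ Nat.card (tXr hp S.inj z m) := by
    have h1 : Nat.card (Fin a → Fin m) = m ^ a := by
      rw [Nat.card_fun, Nat.card_fin, Nat.card_fin]
    rw [← h1]
    exact Nat.card_le_card_of_injective (fun c' => (⟨F c', hF1 c'⟩ : tXr hp S.inj z m)) fun c1 c2 h =>
      hinj (congrArg Subtype.val h)
  have h1 : m ^ a ∣ Nat.card (tXr hp S.inj z m) := by
    rw [hj] at hle ⊢
    rw [hm, ← pow_mul] at hle ⊢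
    exact pow_dvd_pow r ((Nat.pow_le_pow_iff_right hr.one_lt).1 hle)
  exact h1.trans (Subgroup.card_dvd_of_le fun x' hx' => hx'.1)

open Polynomial in
/-- **The torus contains a Sylow subgroup, dual form.** -/
theorem IsTor.not_dvd_index_dual (h : IsTor hp cs S ε R T) [IsAlgClosed k] [Finite W] [Finite X]
    (hε : ε = 1 ∨ ε = -1) {r : ℕ} (hr : r.Prime) (hrp : r ≠ p) (hrd : ¬ r ∣ d) {Q : ℤ} (hQ : Q = ε * (p ^ e : ℕ))
    {n : ℕ} (hn0 : 0 < n)
    {a : ℕ} (x : Fin a → Fin l → ℤ) (y : Fin a → ((Fin l → ℤ) →ₗ[ℤ] ℤ)) (c : ℤ)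
    (hc : ¬ (r : ℤ) ∣ c) (hy0 : ∀ i z, y i (aeval R (cyclotomic n ℤ) z) = 0)
    (hy : ∀ i i', ∀ j < (cyclotomic n ℤ).natDegree, y i ((R ^ j) (x i')) =
      if i = i' ∧ j + 1 = (cyclotomic n ℤ).natDegree then c else 0)
    {fs : ℤ} {N' g' : ℕ} (hcard : g' * Nat.card X = (p ^ e) ^ N' * fs.natAbs)
    (hfs : ∃ R', fs = (cyclotomic n ℤ).eval Q ^ a * R' ∧ ¬ (r : ℤ) ∣ R') : ¬ r ∣ T.index := by
  have hQ1 : 1 < Q.natAbs := by
    have h4 : Q.natAbs = p ^ e := by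
      rw [hQ, Int.natAbs_mul]
      rcases hε with rfl | rfl <;> simp
    rw [h4]
    exact Nat.one_lt_pow S.pos.ne' (Fact.out : p.Prime).one_lt
  obtain ⟨v, b, hv, hb⟩ := exists_part hr (cyclotomic_eval_ne_zero hn0 hQ1)
  refine H630.Exc.not_dvd_index _ hr hfs (fun h => ?_) hcard hv hb
    (IsTor.pow_dvd_card_dual hp cs h hε hr hrp hrd hQ (cyclotomic.monic n ℤ) (by
      rw [natDegree_cyclotomic]
      exact Nat.totient_pos.2 hn0) x y c hc hy0 hy (v := v) ⟨b, hv⟩)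
  exact hrp ((Nat.prime_dvd_prime_iff_eq hr (Fact.out : p.Prime)).1 (hr.dvd_of_dvd_pow h))

end Gen

/-! ### certificates -/

/-- **the dual certificate** -/
def DCert (Al : List (List ℤ)) (l n a : ℕ) (word : List (Fin l)) (k : ℕ) (xs ys : List (List ℤ)) : Prop :=
  (∀ i : Fin a, (xs.getD i []).length = l ∧ (ys.getD i []).length = l) ∧
  (∀ i : Fin a, ∀ j : Fin l, dot (ys.getD i []) (horner Al word k (bas l j) (cycL n)) = 0) ∧
  (∀ i : Fin a, ∀ i' : Fin a, ∀ j : Fin ((cycL n).length - 1), dot (ys.getD i []) (acn Al word (k * j) (xs.getD i' [])) =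
    if i = i' ∧ j.1 + 2 = (cycL n).length then 1 else 0)

instance instDecDCert (Al : List (List ℤ)) (l n a : ℕ) (word : List (Fin l)) (k : ℕ)
    (xs ys : List (List ℤ)) : Decidable (DCert Al l n a word k xs ys) := by
  unfold DCert
  infer_instance

theorem dcert_data {D : ChevalleyDatum} {l : ℕ} {M : CoxeterMatrix (Fin l)} (hp : IsType D l M)
    {W : Type*} [Group W] (cs : CoxeterSystem M W) {Al : List (List ℤ)} (hA : MatList (cartanOf D l) Al)
    {word : List (Fin l)} {j n a : ℕ} (hn : n ∈ H130.PolyL.idx) {xs ys : List (List ℤ)}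
    (H : DCert Al l n a word j xs ys) :
    ∃ (x : Fin a → Fin l → ℤ) (y : Fin a → ((Fin l → ℤ) →ₗ[ℤ] ℤ)),
      (∀ i z, y i (Polynomial.aeval (rep cs hp.isCartan (cs.wordProd word ^ j)) (Polynomial.cyclotomic n ℤ) z) = 0) ∧
      (∀ i i', ∀ j' < (Polynomial.cyclotomic n ℤ).natDegree,
        y i ((rep cs hp.isCartan (cs.wordProd word ^ j) ^ j') (x i')) =
        if i = i' ∧ j' + 1 = (Polynomial.cyclotomic n ℤ).natDegree then 1 else 0) := by
  obtain ⟨h2, h3, h4⟩ := H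
  refine ⟨fun i => toFn l (xs.getD i []), fun i => fn l (ys.getD i []), ?_, ?_⟩
  · intro i z
    have h5 := dvd_of_basis ((fn l (ys.getD i [])).comp
      (Polynomial.aeval (rep cs hp.isCartan (cs.wordProd word ^ j)) (Polynomial.cyclotomic n ℤ))) (m := 0) (fun i' => by
        rw [LinearMap.comp_apply, ← toFn_bas, cyclotomic_eq _ hn, ← toFn_horner cs hp.isCartan hA word j _ (length_bas _)]
        have h6 := h3 i i'
        rw [dot_eq _ _ (h2 i).2 (by rw [length_horner _ _ _ (length_bas _)])] at h6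
        exact zero_dvd_iff.2 h6) z
    exact zero_dvd_iff.1 h5
  · intro i i' j' hj
    have hdeg := natDegree_cyclotomic_eq hn
    have h5 := h4 i i' ⟨j', by omega⟩
    have h6 : (fn l (ys.getD i [])) ((rep cs hp.isCartan (cs.wordProd word ^ j) ^ j') (toFn l (xs.getD i' []))) =
        dot (ys.getD i []) (acn Al word (j * j') (xs.getD i' [])) := by
      rw [dot_eq _ _ (h2 i).2 (by rw [length_acn, (h2 i').1]), toFn_acn cs hp.isCartan hA word _ _ (h2 i').1, map_pow,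
        ← pow_mul]
      rfl
    rw [h6, h5]
    congr 1
    apply propext
    constructor
    · rintro ⟨h7, h8⟩
      exact ⟨h7, by simp only at h8; omega⟩
    · rintro ⟨h7, h8⟩
      exact ⟨h7, by simp only; omega⟩

/-- a torus with a full `n`-part whose order is divisible by `Φ_m` -/
def HasD (Al : List (List ℤ)) (l : ℕ) (degs : List ℕ) (n m : ℕ) : Prop :=
  ∃ (word : List (Fin l)) (k : ℕ) (xs ys xs' ys' : List (List ℤ)),
    DCert Al l n (degs.filter (fun i => n ∣ i)).length word k xs ys ∧ DCert Al l m 1 word k xs' ys'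

section Row

variable {D : ChevalleyDatum} {l : ℕ} {M : CoxeterMatrix (Fin l)} (hp : IsType D l M)
  {W : Type*} [Group W] (cs : CoxeterSystem M W)

variable {k : Type u} [Field k] {p e : ℕ} [hpF : Fact p.Prime] [CharP k p] {σ : MulAut ↥(D.group k)}
  {g : (Fin l → ℤ) ≃+ (Fin l → ℤ)}
  {X : Type v} [Group X] {e0 : X →* ↥(D.group k)} {d : ℕ} (S : Setup hp cs p e σ g e0 d)

include S

/-- **The torus kills.** -/
theorem not_same_dual [IsAlgClosed k] [Finite W] [Finite X] {ε : ℤ} (hε : ε = 1 ∨ ε = -1)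
    {Al : List (List ℤ)} (hA : MatList (cartanOf D l) Al) (hT : ∀ w1, HasTor hp cs g ε w1) {Q : ℤ}
    (hQ : Q = ε * (p ^ e : ℕ)) {n : ℕ} (hn : 0 < n ∧ n ∈ H130.PolyL.idx) {m : ℕ} (hm : 0 < m ∧ m ∈ H130.PolyL.idx)
    {degs : List ℕ} (H : HasD Al l degs n m) {N' g' : ℕ}
    (hcard : g' * Nat.card X = (p ^ e) ^ N' * ((degs.map (fun i => Q ^ i - 1)).prod).natAbs)
    {r s : ℕ} (hr : r.Prime) (hs : s.Prime) (hrs : r ≠ s) (hrp : r ≠ p) (hsp : s ≠ p)
    (hrd : ¬ r ∣ d) (hsd : ¬ s ∣ d) (hrn : orderOf (Q : ZMod r) = n) (hgood : ∀ i ∈ degs, n ∣ i → ¬ r ∣ i)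
    (hsm : (s : ℤ) ∣ (Polynomial.cyclotomic m ℤ).eval Q) : ¬ Same r s X := by
  obtain ⟨word, j, xs, ys, xs', ys', h1, h2⟩ := H
  obtain ⟨T, hTor⟩ := exists_isTor hp cs S (hT (cs.wordProd word ^ j))
  obtain ⟨x, y, hx, hy⟩ := dcert_data hp cs hA hn.2 h1
  obtain ⟨x', y', hx', hy'⟩ := dcert_data hp cs hA hm.2 h2
  have hQr := not_dvd_Q (p := p) (e := e) Fact.out hr hrp hε hQ
  have hfs := exists_prod hr hQr degs (by rw [hrn]; exact hgood)
  rw [hrn] at hfs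
  have c1 : ∀ r : ℕ, r.Prime → ¬ (r : ℤ) ∣ 1 := fun r hr h => by
    have : r ∣ 1 := by exact_mod_cast h
    exact hr.one_lt.ne' (Nat.dvd_one.1 this)
  have hi := IsTor.not_dvd_index_dual hp cs hTor hε hr hrp hrd hQ hn.1 x y 1 (c1 r hr) hx hy hcard hfs
  have hsT := IsTor.pow_dvd_card_dual hp cs hTor hε hs hsp hsd hQ (Polynomial.cyclotomic.monic m ℤ) (by
      rw [Polynomial.natDegree_cyclotomic]
      exact Nat.totient_pos.2 hm.1) x' y' 1 (c1 s hs) hx' hy' (v := 1) (by rw [pow_one]; exact hsm)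
  rw [pow_one, pow_one] at hsT
  exact IsTor.not_same_good hp cs hTor hr hs hrs hi hsT

end Row

/-! ### the shape of the tables -/

/-- `r` a good prime of order `n`, `s` a prime dividing `Φ_m(Q)`, `s` not a divisor of the index -/
def DeadZ (degs : List ℕ) (d : ℕ) (X : Type v) [Group X] (Q : ℤ) (n m : ℕ) : Prop :=
  ∀ r s : ℕ, r.Prime → s.Prime → r ≠ s → (∀ i ∈ degs, n ∣ i → ¬ r ∣ i) → ¬ (s ∣ d ∧ (s : ℤ) ∣ Q - 1) →
    orderOf (Q : ZMod r) = n → (s : ℤ) ∣ (Polynomial.cyclotomic m ℤ).eval Q → ¬ Same r s X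

/-- a prime dividing `Φ_m(Q)` does not divide `Q` -/
theorem not_dvd_of_cyc {Q : ℤ} {m s : ℕ} (hm : 0 < m) (hs : s.Prime)
    (h : (s : ℤ) ∣ (Polynomial.cyclotomic m ℤ).eval Q) : ¬ (s : ℤ) ∣ Q := by
  intro h1
  have h2 := Polynomial.eval_dvd (x := Q) (Polynomial.cyclotomic.dvd_X_pow_sub_one m ℤ)
  rw [Polynomial.eval_sub, Polynomial.eval_pow, Polynomial.eval_X, Polynomial.eval_one] at h2
  have h3 := dvd_sub (h1.trans (dvd_pow_self Q hm.ne')) (h.trans h2)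
  have h4 : Q ^ m - (Q ^ m - 1) = 1 := by ring
  rw [h4] at h3
  have : s ∣ 1 := by exact_mod_cast h3
  exact hs.one_lt.ne' (Nat.dvd_one.1 this)

/-- the primes of the table are not the characteristic -/
theorem ne_char {p e : ℕ} (he : 0 < e) {ε Q : ℤ} (hQ : Q = ε * (p ^ e : ℕ)) {s : ℕ} (h : ¬ (s : ℤ) ∣ Q) : s ≠ p := by
  rintro rfl
  apply h
  rw [hQ]
  push_cast
  exact (dvd_pow_self _ he.ne').mul_left _

theorem not_dvd_of_orderOf {Q : ℤ} {n s : ℕ} (hn : 0 < n) (hs : s.Prime) (h : orderOf (Q : ZMod s) = n) :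
    ¬ (s : ℤ) ∣ Q := by
  have : Fact s.Prime := ⟨hs⟩
  intro h1
  have h2 : (Q : ZMod s) = 0 := (ZMod.intCast_zmod_eq_zero_iff_dvd _ _).2 h1
  have h3 : orderOf (Q : ZMod s) = 0 := by
    rw [h2, orderOf_eq_zero_iff']
    intro m hm
    rw [zero_pow hm.ne']
    exact zero_ne_one
  omega

/-- `Kill` from the table -/
theorem DeadZ.kill {degs : List ℕ} {d : ℕ} {X : Type v} [Group X] {q n m : ℕ} (h : DeadZ degs d X (q : ℤ) n m)
    (hn : 1 < n) (hm : 1 < m) (hb : NoBad degs n) : Kill X q n m := by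
  intro r s hr hs hr2 hs2 hrs _ _ h1 h2
  have h1' : orderOf ((q : ℤ) : ZMod r) = n := by rw [cast_ord]; exact h1
  have h2' : orderOf ((q : ℤ) : ZMod s) = m := by rw [cast_ord]; exact h2
  have hQr := not_dvd_of_orderOf (by omega) hr h1'
  have hQs := not_dvd_of_orderOf (by omega) hs h2'
  have hnr : n ∣ r - 1 := by rw [← h1']; exact H630.Exc.ord_dvd hr hQr
  refine h r s hr hs hrs (hb.not_dvd hr hr2 hnr) (fun h3 => ?_) h1' (by rw [← h2']; exact dvd_cyclotomic hs hQs)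
  have h4 := (dvd_pow_sub_one_iff (r := s) (Q := (q : ℤ)) 1).1 (by rw [pow_one]; exact h3.2)
  rw [h2'] at h4
  have := Nat.le_of_dvd one_pos h4
  omega

/-- `KillTwo` from the table -/
theorem DeadZ.killTwo {degs : List ℕ} {d : ℕ} {X : Type v} [Group X] {q n m : ℕ} (h : DeadZ degs d X (q : ℤ) n m)
    (hn : 1 < n) (hb : NoBad degs n) (hd : ¬ 2 ∣ d) (hq : (2 : ℤ) ∣ (Polynomial.cyclotomic m ℤ).eval (q : ℤ)) :
    KillTwo X q n := by
  intro r hr hr2 _ h1 hS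
  have h1' : orderOf ((q : ℤ) : ZMod r) = n := by rw [cast_ord]; exact h1
  have hQr := not_dvd_of_orderOf (by omega) hr h1'
  have hnr : n ∣ r - 1 := by rw [← h1']; exact H630.Exc.ord_dvd hr hQr
  exact h r 2 hr Nat.prime_two hr2 (hb.not_dvd hr hr2 hnr) (fun h3 => hd h3.1) h1' (by exact_mod_cast hq) hS.symm

/-- `2 ∣ Φ_m(q)`, `q` odd, `m` a power of `2` -/
theorem two_dvd_cyc {q : ℤ} (h : q % 2 = 1) : ∀ m ∈ [1, 2, 4, 8], (2 : ℤ) ∣ (Polynomial.cyclotomic m ℤ).eval q := by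
  intro m hm
  obtain ⟨t, ht⟩ : ∃ t, q = 2 * t + 1 := ⟨q / 2, by omega⟩
  simp only [List.mem_cons, List.not_mem_nil, or_false] at hm
  rcases hm with rfl | rfl | rfl | rfl
  · rw [cyclotomic_eq _ (by decide)]
    simp only [cycL, ofL, Polynomial.eval_add, Polynomial.eval_mul, Polynomial.eval_C, Polynomial.eval_X,
      Polynomial.eval_zero]
    rw [ht]
    exact ⟨t, by ring⟩
  · rw [cyclotomic_eq _ (by decide)]
    simp only [cycL, ofL, Polynomial.eval_add, Polynomial.eval_mul, Polynomial.eval_C, Polynomial.eval_X,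
      Polynomial.eval_zero]
    rw [ht]
    exact ⟨t + 1, by ring⟩
  · rw [cyclotomic_eq _ (by decide)]
    simp only [cycL, ofL, Polynomial.eval_add, Polynomial.eval_mul, Polynomial.eval_C, Polynomial.eval_X,
      Polynomial.eval_zero]
    rw [ht]
    exact ⟨2 * t ^ 2 + 2 * t + 1, by ring⟩
  · rw [cyclotomic_eq _ (by decide)]
    simp only [cycL, ofL, Polynomial.eval_add, Polynomial.eval_mul, Polynomial.eval_C, Polynomial.eval_X,
      Polynomial.eval_zero]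
    rw [ht]
    exact ⟨8 * t ^ 4 + 16 * t ^ 3 + 12 * t ^ 2 + 4 * t + 1, by ring⟩

/-- the untwisted groups -/
theorem deadZ_of_setup {D : ChevalleyDatum} {l : ℕ} {M : CoxeterMatrix (Fin l)} (hp : IsType D l M)
    {W : Type*} [Group W] (cs : CoxeterSystem M W) {k : Type u} [Field k] [IsAlgClosed k] {p e : ℕ} [Fact p.Prime]
    [CharP k p] {σ : MulAut ↥(D.group k)} {g : (Fin l → ℤ) ≃+ (Fin l → ℤ)} {X : Type v} [Group X] [Finite X] [Finite W]
    {e0 : X →* ↥(D.group k)} {d : ℕ} (S : Setup hp cs p e σ g e0 d) {ε : ℤ} (hε : ε = 1 ∨ ε = -1)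
    {Al : List (List ℤ)} (hA : MatList (cartanOf D l) Al) (hT : ∀ w1, HasTor hp cs g ε w1) {Q : ℤ}
    (hQ : Q = ε * (p ^ e : ℕ)) {degs : List ℕ} {N' g' : ℕ}
    (hcard : g' * Nat.card X = (p ^ e) ^ N' * ((degs.map (fun i => Q ^ i - 1)).prod).natAbs)
    {d0 : ℕ} (hd : ∀ s : ℕ, s.Prime → s ∣ d → s ∣ d0 ∧ (s : ℤ) ∣ Q - 1)
    {n : ℕ} (hn : 1 < n ∧ n ∈ H130.PolyL.idx) {m : ℕ} (hm : 0 < m ∧ m ∈ H130.PolyL.idx)
    (H : HasD Al l degs n m) : DeadZ degs d0 X Q n m := by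
  intro r s hr hs hrs hgood hsd hrn hsm
  have hQr := not_dvd_of_orderOf (by omega) hr hrn
  refine not_same_dual hp cs S hε hA hT hQ ⟨by omega, hn.2⟩ hm H hcard hr hs hrs (ne_char S.pos hQ hQr)
    (ne_char S.pos hQ (not_dvd_of_cyc hm.1 hs hsm)) (fun h => ?_) (fun h => hsd (hd s hs h)) hrn hgood hsm
  have h4 := (dvd_pow_sub_one_iff (r := r) (Q := Q) 1).1 (by rw [pow_one]; exact (hd r hr h).2)
  rw [hrn] at h4
  have := Nat.le_of_dvd one_pos h4
  omega

end Cfsg.Agent.H755.PQ
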