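import Cfsg.Agent.H755.PQ.TorDual

/-!
# S4612: tori, the certificates (helper755)
-/

set_option autoImplicit false
set_option maxRecDepth 100000

namespace Cfsg.Agent.H755.PQ

open Cfsg.Agent.H130.WeylCk Cfsg.Agent.H130.PolyL Cfsg.Agent.H130.WeylTab

theorem hasD_G2_6_6 : HasD alG2 2 [2, 6] 6 6 :=
  ⟨[0, 1], 1, [[1, 1]],
    [[-1, 1]],
    [[1, 1]], [[-1, 1]], by decide +kernel, by decide +kernel⟩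

theorem hasD_F4_4_4 : HasD alF4 4 [2, 6, 8, 12] 4 4 :=
  ⟨[3, 0, 2, 1], 3, [[1, 2, 2, 0], [0, 1, 1, 0]],
    [[0, 1, -1, 0], [0, -1, 1, -1]],
    [[0, 1, 0, 0]], [[0, 0, -1, 1]], by decide +kernel, by decide +kernel⟩

theorem hasD_F4_6_6 : HasD alF4 4 [2, 6, 8, 12] 6 6 :=
  ⟨[3, 0, 2, 1], 2, [[-1, 1, 1, 1], [-1, 1, 0, 1]],
    [[1, 0, 0, 1], [0, -1, 0, 1]],
    [[0, 1, 0, 0]], [[0, 0, -1, 1]], by decide +kernel, by decide +kernel⟩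

theorem hasD_F4_8_8 : HasD alF4 4 [2, 6, 8, 12] 8 8 :=
  ⟨[2, 1, 2, 0, 3, 1], 1, [[0, 1, 1, 1]],
    [[0, 0, -1, 1]],
    [[0, 1, 1, 1]], [[0, 0, -1, 1]], by decide +kernel, by decide +kernel⟩

theorem hasD_E6_5_2 : HasD alE6 6 [2, 5, 6, 8, 9, 12] 5 2 :=
  ⟨[0, 1, 3, 2, 5], 1, [[1, 1, 2, 2, 2, 0]],
    [[0, 2, 0, -1, 0, 0]],
    [[0, 0, 0, 0, -1, 0]], [[0, 0, 0, 0, -1, 2]], by decide +kernel, by decide +kernel⟩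

theorem hasD_E6_8_2 : HasD alE6 6 [2, 5, 6, 8, 9, 12] 8 2 :=
  ⟨[3, 0, 1, 2, 4], 1, [[0, -1, 0, 0, 0, -1]],
    [[-2, 0, 1, 0, 0, 0]],
    [[0, 0, 0, 0, 0, -1]], [[0, -2, 0, 0, 2, -1]], by decide +kernel, by decide +kernel⟩

theorem hasD_E6_6_3 : HasD alE6 6 [2, 5, 6, 8, 9, 12] 6 3 :=
  ⟨[4, 3, 1, 2, 0, 5], 2, [[0, 0, 0, -1, 0, 0], [0, -1, 0, -2, 0, 0]],
    [[1, 0, -1, 0, 0, -1], [-1, 0, 0, 0, 1, 0]],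
    [[-1, 0, 0, 0, 0, 0]], [[0, 0, -1, 1, -1, 1]], by decide +kernel, by decide +kernel⟩

theorem hasD_E6_12_3 : HasD alE6 6 [2, 5, 6, 8, 9, 12] 12 3 :=
  ⟨[4, 3, 1, 2, 0, 5], 1, [[-1, 0, 0, 0, 0, 0]],
    [[0, 0, 1, 0, -1, 1]],
    [[1, 0, 0, 0, 0, 0]], [[0, 0, -1, 1, -1, 1]], by decide +kernel, by decide +kernel⟩

theorem hasD_E6_4_1 : HasD alE6 6 [2, 5, 6, 8, 9, 12] 4 1 :=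
  ⟨[3, 0, 1, 2, 4], 2, [[0, 0, 1, 1, 1, 1], [0, 0, 0, 1, 1, 0]],
    [[1, -1, 0, 1, -1, 0], [0, 0, 1, 0, 0, -1]],
    [[0, 1, 0, 0, 0, 0]], [[0, 1, 0, 0, -1, 1]], by decide +kernel, by decide +kernel⟩

theorem hasD_E6_6_6 : HasD alE6 6 [2, 5, 6, 8, 9, 12] 6 6 :=
  ⟨[4, 3, 1, 2, 0, 5], 2, [[0, 0, 0, -1, 0, 0], [0, -1, 0, -2, 0, 0]],
    [[1, 0, -1, 0, 0, -1], [-1, 0, 0, 0, 1, 0]],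
    [[0, -1, 0, 0, 0, 0]], [[0, 0, 1, 0, -1, 1]], by decide +kernel, by decide +kernel⟩

theorem hasD_E6_4_4 : HasD alE6 6 [2, 5, 6, 8, 9, 12] 4 4 :=
  ⟨[3, 0, 1, 2, 4], 2, [[0, 0, 1, 1, 1, 1], [0, 0, 0, 1, 1, 0]],
    [[1, -1, 0, 1, -1, 0], [0, 0, 1, 0, 0, -1]],
    [[0, 0, 0, 1, 0, -1]], [[5, 0, 0, -1, 0, -1]], by decide +kernel, by decide +kernel⟩

theorem hasD_E6_8_8 : HasD alE6 6 [2, 5, 6, 8, 9, 12] 8 8 :=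
  ⟨[3, 0, 1, 2, 4], 1, [[0, -1, 0, 0, 0, -1]],
    [[-2, 0, 1, 0, 0, 0]],
    [[0, -1, 0, 0, 0, -1]], [[-2, 0, 1, 0, 0, 0]], by decide +kernel, by decide +kernel⟩

theorem hasD_E6_2_2 : HasD alE6 6 [2, 5, 6, 8, 9, 12] 2 2 :=
  ⟨[1, 2, 3, 4], 3, [[0, 0, 0, -1, -1, 0], [1, 0, 0, 0, 0, 1], [0, 0, 0, 1, 0, 0], [0, 0, 0, 1, 1, -1]],
    [[1, 9, -5, 0, -1, -1], [1, 2, -2, 0, 0, 0], [0, 1, -1, 1, -1, 0], [1, 6, -4, 0, 0, -1]],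
    [[0, -1, 0, 0, 0, 0]], [[0, -1, 1, 0, -1, 1]], by decide +kernel, by decide +kernel⟩

theorem hasD_E6_5_1 : HasD alE6 6 [2, 5, 6, 8, 9, 12] 5 1 :=
  ⟨[3, 2, 4, 0], 1, [[0, 1, 1, 1, 1, 0]],
    [[-1, 1, 0, 0, -1, 1]],
    [[0, -1, 0, 0, 0, 0]], [[0, -1, 0, 0, 0, 1]], by decide +kernel, by decide +kernel⟩

theorem hasD_E6_8_1 : HasD alE6 6 [2, 5, 6, 8, 9, 12] 8 1 :=
  ⟨[3, 0, 1, 2, 4], 1, [[0, -1, 0, 0, 0, -1]],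
    [[-2, 0, 1, 0, 0, 0]],
    [[0, 0, 0, 0, 0, -1]], [[0, 0, 0, 0, 0, -1]], by decide +kernel, by decide +kernel⟩

theorem hasD_E7_4_2 : HasD alE7 7 [2, 6, 8, 10, 12, 14, 18] 4 2 :=
  ⟨[6, 3, 1, 3, 4, 3, 2], 1, [[3, -1, 0, -1, -1, -2, 0], [2, 0, 1, 0, 0, -1, 0]],
    [[0, 1, -1, 0, 1, -1, 0], [-1, -4, 2, 1, 0, 0, 0]],
    [[0, 0, 0, 0, 0, -1, 0]], [[0, 0, 0, 0, 0, -1, 2]], by decide +kernel, by decide +kernel⟩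

theorem hasD_E7_5_2 : HasD alE7 7 [2, 6, 8, 10, 12, 14, 18] 5 2 :=
  ⟨[1, 0, 5, 3, 2], 1, [[1, 1, 2, 2, 2, 0, 0]],
    [[0, 2, 0, -1, 0, 0, 0]],
    [[0, 0, 0, 0, -1, 0, 0]], [[0, 0, 0, 0, -1, 2, -1]], by decide +kernel, by decide +kernel⟩

theorem hasD_E7_5_3 : HasD alE7 7 [2, 6, 8, 10, 12, 14, 18] 5 3 :=
  ⟨[1, 2, 3, 0, 6, 5], 1, [[-1, -1, -1, -2, -2, 0, 0]],
    [[0, -2, 0, 1, 0, 0, 0]],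
    [[0, 0, 0, 0, 1, 1, 0]], [[0, 0, 0, 0, 1, -1, -1]], by decide +kernel, by decide +kernel⟩

theorem hasD_E7_6_2 : HasD alE7 7 [2, 6, 8, 10, 12, 14, 18] 6 2 :=
  ⟨[0, 1, 2, 5, 3, 4, 6], 3, [[-1, 0, 0, -1, 0, -1, -3], [1, 0, -1, 1, 1, 1, 0], [-1, 0, 0, -1, 0, -1, -2]],
    [[0, 0, 0, 1, 0, -1, 0], [1, 0, 0, 0, 0, -1, 0], [0, 1, -1, 0, -1, 0, 0]],
    [[0, 1, 0, 0, 0, 0, 0]], [[0, 1, 0, -1, 1, 0, -1]], by decide +kernel, by decide +kernel⟩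

theorem hasD_E7_8_2 : HasD alE7 7 [2, 6, 8, 10, 12, 14, 18] 8 2 :=
  ⟨[1, 3, 0, 4, 2], 1, [[1, 0, 1, 1, 0, 1, 0]],
    [[0, 0, 1, 0, 0, -1, 0]],
    [[0, 0, 0, 0, 0, -1, 0]], [[0, 2, 0, -2, 2, -1, 0]], by decide +kernel, by decide +kernel⟩

theorem hasD_E7_8_4 : HasD alE7 7 [2, 6, 8, 10, 12, 14, 18] 8 4 :=
  ⟨[2, 5, 4, 3, 4, 1, 6, 3], 1, [[-1, 1, 0, 0, -1, -1, 0]],
    [[0, -1, 1, 0, 0, -1, 1]],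
    [[-1, 0, 0, 0, 0, 0, 0]], [[0, -1, -1, 2, -1, 0, 0]], by decide +kernel, by decide +kernel⟩

theorem hasD_E7_10_2 : HasD alE7 7 [2, 6, 8, 10, 12, 14, 18] 10 2 :=
  ⟨[6, 4, 5, 3, 1, 2], 1, [[0, 0, 0, -1, 0, -1, -1]],
    [[-1, 0, 0, 0, 1, -1, 1]],
    [[-1, 0, 0, 0, 0, 0, 0]], [[-1, -3, 2, 1, -1, 0, 1]], by decide +kernel, by decide +kernel⟩

theorem hasD_E7_10_6 : HasD alE7 7 [2, 6, 8, 10, 12, 14, 18] 10 6 :=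
  ⟨[3, 1, 2, 4, 5, 0, 3, 2, 1, 4, 6, 5, 0], 1, [[0, 0, -1, 0, -1, 0, 0]],
    [[0, -1, 0, 1, 0, -1, 1]],
    [[0, 0, -1, 0, 0, 0, 0]], [[1, -1, 0, 0, 0, 1, -1]], by decide +kernel, by decide +kernel⟩

theorem hasD_E7_12_2 : HasD alE7 7 [2, 6, 8, 10, 12, 14, 18] 12 2 :=
  ⟨[2, 3, 5, 0, 1, 6, 4, 5, 3, 4, 6], 1, [[0, 0, 1, 2, 1, 0, 0]],
    [[0, 0, -1, 0, 1, -1, 1]],
    [[0, 1, 0, 0, 0, 0, 0]], [[0, 1, 0, 0, 0, -1, 0]], by decide +kernel, by decide +kernel⟩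

theorem hasD_E7_12_3 : HasD alE7 7 [2, 6, 8, 10, 12, 14, 18] 12 3 :=
  ⟨[4, 3, 1, 2, 0, 5], 1, [[1, 0, 0, 0, 0, 0, -1]],
    [[1, 1, -1, 0, 0, -1, 1]],
    [[0, 0, -1, 0, 0, 0, 1]], [[-2, 0, 1, 1, -1, -1, 1]], by decide +kernel, by decide +kernel⟩

theorem hasD_E7_12_6 : HasD alE7 7 [2, 6, 8, 10, 12, 14, 18] 12 6 :=
  ⟨[2, 3, 5, 0, 1, 6, 4, 5, 3, 4, 6], 1, [[0, 0, 1, 2, 1, 0, 0]],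
    [[0, 0, -1, 0, 1, -1, 1]],
    [[0, 0, 0, -1, 0, -1, 0]], [[0, -2, 0, 1, 1, -1, -1]], by decide +kernel, by decide +kernel⟩

theorem hasD_E7_14_2 : HasD alE7 7 [2, 6, 8, 10, 12, 14, 18] 14 2 :=
  ⟨[3, 0, 1, 2, 3, 6, 4, 1, 5], 1, [[0, 0, 0, -1, -1, -1, -1]],
    [[0, 0, 0, 1, 0, -1, 0]],
    [[0, 1, 0, 0, 0, 0, 0]], [[2, 1, -1, -1, 1, 0, -1]], by decide +kernel, by decide +kernel⟩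

theorem hasD_E7_18_2 : HasD alE7 7 [2, 6, 8, 10, 12, 14, 18] 18 2 :=
  ⟨[0, 1, 2, 5, 3, 4, 6], 1, [[-1, 0, -1, 0, 0, 0, -1]],
    [[0, 2, -1, 0, -1, 0, 1]],
    [[0, 1, 0, 0, 0, 0, 0]], [[0, 1, 0, -1, 1, 0, -1]], by decide +kernel, by decide +kernel⟩

theorem hasD_E8_7_2 : HasD alE8 8 [2, 8, 12, 14, 18, 20, 24, 30] 7 2 :=
  ⟨[4, 3, 7, 5, 6, 1, 0], 1, [[0, 1, 1, 2, 1, 1, 0, 0]],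
    [[0, -1, 1, 0, 0, 0, -1, 1]],
    [[0, 0, -1, 0, 0, 0, 0, 0]], [[2, 0, -1, 0, 0, 0, 0, 0]], by decide +kernel, by decide +kernel⟩

theorem hasD_E8_9_2 : HasD alE8 8 [2, 8, 12, 14, 18, 20, 24, 30] 9 2 :=
  ⟨[3, 4, 0, 7, 3, 1, 3, 2, 5], 1, [[0, 0, 1, 1, 1, 1, 1, 0]],
    [[0, -1, -1, 1, 0, 1, -1, 0]],
    [[0, 0, 0, 0, 0, 0, -1, 0]], [[0, 0, 0, 0, 0, 0, -1, 2]], by decide +kernel, by decide +kernel⟩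

theorem hasD_E8_9_3 : HasD alE8 8 [2, 8, 12, 14, 18, 20, 24, 30] 9 3 :=
  ⟨[5, 6, 7, 3, 2, 1, 3, 4, 5, 6, 2, 3, 0, 2, 1, 3, 4, 5, 1, 3, 4, 2, 3, 0, 2, 1, 3, 4], 1, [[2, 0, 3, 1, 0, -1, -1, -1]],
    [[0, 0, 0, 0, -1, 1, 0, -1]],
    [[0, 1, 0, 1, 0, 0, 0, 0]], [[0, -1, -1, 1, 0, 1, -1, 0]], by decide +kernel, by decide +kernel⟩

theorem hasD_E8_14_2 : HasD alE8 8 [2, 8, 12, 14, 18, 20, 24, 30] 14 2 :=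
  ⟨[2, 5, 6, 0, 4, 3, 1, 2, 3], 1, [[0, 0, -1, 0, 0, 0, 0, 0]],
    [[0, 0, 0, -1, 0, 1, 0, 1]],
    [[0, 0, 0, 0, 0, 0, 0, -1]], [[2, -2, 2, 0, -2, 0, 2, -1]], by decide +kernel, by decide +kernel⟩

theorem hasD_E8_18_2 : HasD alE8 8 [2, 8, 12, 14, 18, 20, 24, 30] 18 2 :=
  ⟨[6, 2, 5, 0, 3, 4, 1], 1, [[0, 0, 1, 1, 2, 1, 0, 0]],
    [[-2, 0, 0, 1, 0, -1, 0, 1]],
    [[0, 0, 0, 0, 0, 0, 0, -1]], [[0, -2, 0, 0, 2, -2, 2, -1]], by decide +kernel, by decide +kernel⟩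

theorem hasD_E8_18_6 : HasD alE8 8 [2, 8, 12, 14, 18, 20, 24, 30] 18 6 :=
  ⟨[7, 6, 1, 3, 4, 5, 2, 3, 4, 2, 1, 3, 2, 0], 1, [[-1, -1, -2, 0, 0, -2, -1, -1]],
    [[-1, 0, 0, 0, 0, 1, 0, -1]],
    [[0, 1, 0, 1, 0, 0, 0, 0]], [[0, 1, 1, -1, -1, 1, 0, 0]], by decide +kernel, by decide +kernel⟩

theorem hasD_E8_4_4 : HasD alE8 8 [2, 8, 12, 14, 18, 20, 24, 30] 4 4 :=
  ⟨[6, 7, 3, 4, 3, 5, 1, 3, 0, 2], 6, [[-4, -3, -1, -4, -2, -3, 1, 1], [-1, -1, -11, -14, -1, -1, 1, 1], [2, 2, 3, 6, 1, 2, -1, -1], [0, 0, 1, 1, 0, 0, 0, 0]],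
    [[1, 0, -1, 1, -1, -1, 1, 1], [0, 0, 0, 0, 0, 0, -1, 1], [0, 1, 0, 0, 0, -1, 0, 0], [1, -1, 0, 0, -1, 0, -1, 0]],
    [[-1, 0, 0, 0, 0, 0, 0, 0]], [[0, 0, -1, 1, 0, -1, 0, -1]], by decide +kernel, by decide +kernel⟩

theorem hasD_E8_6_6 : HasD alE8 8 [2, 8, 12, 14, 18, 20, 24, 30] 6 6 :=
  ⟨[3, 4, 2, 1, 7, 0, 5, 6], 5, [[-1, 0, 2, 1, 1, 2, 1, 2], [-1, 0, 0, 0, 0, 1, 1, 2], [-2, 0, 1, 1, 1, 2, 2, 0], [1, 0, 0, 0, 0, -1, -1, -1]],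
    [[0, 0, 0, -1, 1, 0, 0, 0], [1, 0, 0, 0, 0, 0, 1, 0], [0, 1, 0, 0, 0, 0, 0, 0], [1, 0, -1, 1, 0, 1, 0, 0]],
    [[0, 1, 0, 0, 0, 0, 0, 0]], [[0, 0, -1, 1, 0, -1, 0, -1]], by decide +kernel, by decide +kernel⟩

theorem hasD_E8_8_8 : HasD alE8 8 [2, 8, 12, 14, 18, 20, 24, 30] 8 8 :=
  ⟨[6, 7, 3, 4, 3, 5, 1, 3, 0, 2], 3, [[-2, 0, -2, -1, 0, 0, 0, 0], [-1, 0, -1, -1, -1, -1, 0, 0]],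
    [[0, 0, 0, 0, 0, 0, 1, 0], [-1, 0, 1, 0, 0, 0, -1, 0]],
    [[1, -1, 0, 1, 1, 0, -1, 0]], [[0, 1, 0, 1, -1, 0, -1, 0]], by decide +kernel, by decide +kernel⟩

theorem hasD_E8_10_10 : HasD alE8 8 [2, 8, 12, 14, 18, 20, 24, 30] 10 10 :=
  ⟨[3, 4, 2, 1, 7, 0, 5, 6], 3, [[-1, 0, -1, -1, -1, -1, 0, 1], [-1, 0, -1, -1, 0, -1, 0, 1]],
    [[0, 0, 0, 0, 0, 0, 1, 0], [-1, 0, 1, 0, 0, 0, -1, 0]],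
    [[0, 0, 1, 0, 1, -1, 0, 0]], [[0, 0, -1, 1, 0, -1, 0, -1]], by decide +kernel, by decide +kernel⟩

theorem hasD_E8_20_20 : HasD alE8 8 [2, 8, 12, 14, 18, 20, 24, 30] 20 20 :=
  ⟨[3, 6, 5, 0, 7, 1, 2, 4, 0, 3, 4, 2, 5, 4], 1, [[1, -2, 0, 0, 1, 0, 0, -1]],
    [[0, 0, 0, 0, 0, 0, 1, 0]],
    [[1, -2, 0, 0, 1, 0, 0, -1]], [[0, 0, 0, 0, 0, 0, 1, 0]], by decide +kernel, by decide +kernel⟩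

end Cfsg.Agent.H755.PQ
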